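import Cfsg.Agent.Lib.Perm.Trans.ThreeRes.Socle.LTwo

/-!
# Unipotent elements and element orders in `PSL(2, K)`
-/

set_option autoImplicit false
set_option linter.all false

namespace CfsgLib.Perm.Trans.ThreeRes.Socle

open Matrix

universe v

theorem squares_seven : ∀ s : ZMod 7, s = 0 ∨ s * s = 1 ∨ s * s = 2 ∨ s * s = 4 := by decide

variable {K : Type v} [Field K] [Fintype K]

theorem card_uniGroup : Nat.card (uniGroup K) = Fintype.card K := by
  rw [← Nat.card_eq_fintype_card]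
  exact (Nat.card_congr (Equiv.ofInjective uni fun x y h => uni_inj h)).symm

/-- the unipotent group is a Sylow subgroup -/
theorem exists_sylow_uni {ℓ : ℕ} [hℓ : Fact ℓ.Prime] [CharP K ℓ] (h2 : ℓ ≠ 2) :
    ∃ U : Sylow ℓ (Matrix.ProjectiveSpecialLinearGroup (Fin 2) K),
      (U : Subgroup (Matrix.ProjectiveSpecialLinearGroup (Fin 2) K)) = uniGroup K := by
  classical
  obtain ⟨k, -, hk⟩ := FiniteField.card K ℓ
  have hodd : Odd (Fintype.card K) := hk ▸ (hℓ.out.odd_of_ne_two h2).pow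
  obtain ⟨U, hU⟩ := (IsPGroup.of_card (n := k) (by rw [card_uniGroup, hk]) : IsPGroup ℓ (uniGroup K)).exists_le_sylow
  refine ⟨U, (Subgroup.eq_of_le_of_card_ge hU ?_).symm⟩
  rw [U.card_eq_multiplicity, card_uniGroup]
  have hd : ℓ ^ (Nat.card (Matrix.ProjectiveSpecialLinearGroup (Fin 2) K)).factorization ℓ ∣
      (Fintype.card K + 1) * ((Fintype.card K - 1) * Fintype.card K) :=
    (CfsgLib.Char.TwoChars.card_psl_odd (F := K) hodd) ▸ (Nat.ordProj_dvd _ ℓ).mul_right 2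
  have hℓK : ℓ ∣ Fintype.card K := by rw [hk]; exact dvd_pow_self ℓ k.ne_zero
  have hq := Fintype.one_lt_card (α := K)
  rw [← mul_assoc] at hd
  refine Nat.le_of_dvd (by omega) ((Nat.Coprime.pow_left _ ?_).dvd_of_dvd_mul_left hd)
  rw [hℓ.out.coprime_iff_not_dvd, hℓ.out.dvd_mul]
  rintro (h | h)
  · exact hℓ.out.not_dvd_one ((Nat.dvd_add_right hℓK).1 h)
  · exact hℓ.out.not_dvd_one ((Nat.dvd_add_right h).1 (by rwa [Nat.sub_add_cancel (by omega)]))

/-- Elements killed by the characteristic are conjugate to unipotent ones. -/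
theorem exists_conj_uni {ℓ : ℕ} [hℓ : Fact ℓ.Prime] [CharP K ℓ] (h2 : ℓ ≠ 2)
    {g : Matrix.ProjectiveSpecialLinearGroup (Fin 2) K} (hg : g ^ ℓ = 1) : ∃ y x, y * g * y⁻¹ = uni x := by
  obtain ⟨U, hU⟩ := exists_sylow_uni (K := K) h2
  have hp : IsPGroup ℓ (Subgroup.zpowers g) := by
    rintro ⟨_, i, rfl⟩
    refine ⟨1, Subtype.ext ?_⟩
    show (g ^ i) ^ (ℓ ^ 1) = 1
    rw [pow_one, ← zpow_natCast (g ^ i), ← _root_.zpow_mul, mul_comm, _root_.zpow_mul, zpow_natCast, hg, _root_.one_zpow]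
  obtain ⟨T, hT⟩ := hp.exists_le_sylow
  obtain ⟨y, hy⟩ := MulAction.exists_smul_eq (Matrix.ProjectiveSpecialLinearGroup (Fin 2) K) U T
  have hm := hT (Subgroup.mem_zpowers g)
  rw [← hy, Sylow.coe_subgroup_smul, hU] at hm
  obtain ⟨_, ⟨x, rfl⟩, hx⟩ := hm
  have hx' : y * uni x * y⁻¹ = g := hx
  exact ⟨y⁻¹, x, by rw [← hx']; group⟩

/-- With seven elements in `K`: elements of order seven are conjugate to their squares. -/
theorem exists_conj_sq (h7 : Fintype.card K = 7) {g : Matrix.ProjectiveSpecialLinearGroup (Fin 2) K} (hg : g ^ 7 = 1) :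
    ∃ y, y * g * y⁻¹ = g ^ 2 := by
  haveI : Fact (Nat.Prime 7) := ⟨by norm_num⟩
  haveI := charP_of_card_eq_prime (R := K) (p := 7) h7
  obtain ⟨y, x, hx⟩ := exists_conj_uni (K := K) (ℓ := 7) (by norm_num) hg
  have h7' : (7 : K) = 0 := by exact_mod_cast CharP.cast_eq_zero K 7
  have h3 : (3 : K) ≠ 0 := fun h => one_ne_zero (α := K) (by linear_combination h7' - 2 * h)
  let w := dia (Units.mk0 (3 : K) h3)
  refine ⟨y⁻¹ * w * y, ?_⟩
  have h1 : w * uni x * w⁻¹ = (uni x) ^ 2 := by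
    rw [dia_uni, uni_pow]
    congr 1
    rw [Units.val_mk0]
    push_cast
    linear_combination x * h7'
  rw [← hx, conj_pow] at h1
  calc y⁻¹ * w * y * g * (y⁻¹ * w * y)⁻¹ = y⁻¹ * (w * (y * g * y⁻¹) * w⁻¹) * y := by group
    _ = g ^ 2 := by rw [h1]; group

/-- The element orders with seven elements in `K`. -/
theorem pow_cases_seven (h7 : Fintype.card K = 7) (g : Matrix.ProjectiveSpecialLinearGroup (Fin 2) K) :
    g ^ 7 = 1 ∨ g ^ 4 = 1 ∨ g ^ 3 = 1 := by
  haveI : Fact (Nat.Prime 7) := ⟨by norm_num⟩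
  haveI := charP_of_card_eq_prime (R := K) (p := 7) h7
  obtain ⟨A, rfl⟩ := QuotientGroup.mk_surjective g
  simp only [← QuotientGroup.mk_pow, QuotientGroup.eq_one_iff]
  obtain ⟨t, ht⟩ : ∃ t, t = A 0 0 + A 1 1 := ⟨_, rfl⟩
  have hcases : t = 0 ∨ t * t = 1 ∨ t * t = 2 ∨ t * t = 4 := by
    let e : ZMod 7 ≃+* K := ZMod.ringEquivOfPrime K (by norm_num) h7
    obtain ⟨s, rfl⟩ := e.surjective t
    rcases squares_seven s with h | h | h | h
    · exact Or.inl (by rw [h, map_zero])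
    · exact Or.inr (Or.inl (by rw [← map_mul, h, map_one]))
    · exact Or.inr (Or.inr (Or.inl (by rw [← map_mul, h, map_ofNat])))
    · exact Or.inr (Or.inr (Or.inr (by rw [← map_mul, h, map_ofNat])))
  have hdet : A 0 0 * A 1 1 - A 0 1 * A 1 0 = 1 := by
    have := A.det_coe; rwa [Matrix.det_fin_two] at this
  have hsq : (A : Matrix (Fin 2) (Fin 2) K) * A = t • (A : Matrix (Fin 2) (Fin 2) K) - 1 := by
    ext i j
    fin_cases i <;> fin_cases j <;> simp [Matrix.mul_apply, Fin.sum_univ_two, ht]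
    · linear_combination -hdet
    · ring
    · ring
    · linear_combination -hdet
  have hscal : ∀ (B : Matrix.SpecialLinearGroup (Fin 2) K) (c : K), (B : Matrix (Fin 2) (Fin 2) K) = c • 1 →
      B ∈ Subgroup.center (Matrix.SpecialLinearGroup (Fin 2) K) := by
    intro B c hB
    refine Subgroup.mem_center_iff.2 fun C => Subtype.ext ?_
    rw [Matrix.SpecialLinearGroup.coe_mul, Matrix.SpecialLinearGroup.coe_mul, hB, Matrix.mul_smul,
      Matrix.mul_one, Matrix.smul_mul, Matrix.one_mul]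
  rcases hcases with h | h | h | h
  · refine Or.inr (Or.inl (hscal _ 1 ?_))
    rw [Matrix.SpecialLinearGroup.coe_pow, show (4 : ℕ) = 2 * 2 from rfl, pow_mul, pow_two (A : Matrix (Fin 2) (Fin 2) K), hsq, h,
      zero_smul, zero_sub, neg_one_sq, one_smul]
  · refine Or.inr (Or.inr (hscal _ (-t) ?_))
    rw [Matrix.SpecialLinearGroup.coe_pow, pow_succ, pow_two, hsq, sub_mul, Matrix.smul_mul, hsq, one_mul,
      smul_sub, smul_smul, h, one_smul, neg_smul]
    abel
  · refine Or.inr (Or.inl (hscal _ (-1) ?_))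
    rw [Matrix.SpecialLinearGroup.coe_pow, show (4 : ℕ) = 2 * 2 from rfl, pow_mul, pow_two (A : Matrix (Fin 2) (Fin 2) K), hsq,
      pow_two]
    simp only [sub_mul, mul_sub, Matrix.smul_mul, Matrix.mul_smul, hsq, one_mul, mul_one, smul_sub, smul_smul, h]
    module
  · exact Or.inl (pow_char_central A (by rw [pow_two, ← ht]; exact h))

end CfsgLib.Perm.Trans.ThreeRes.Socle
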