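import Cfsg.Agent.Lib.Perm.Trans.ThreeRes.Socle.Galois
import Cfsg.Agent.Lib.Perm.Trans.ThreeRes.Socle.Psl
import Cfsg.Agent.S0497

/-!
# The socle `A₆` with three scalars
-/

set_option autoImplicit false
set_option linter.all false

namespace CfsgLib.Perm.Trans.ThreeRes.Socle

open scoped Matrix
open Matrix Cfsg.Geo

universe v

variable {F : Type*} [Field F] [Fintype F] {P : Subgroup (GL (Fin 3) F)}

local notation "M3" => Matrix (Fin 3) (Fin 3) F

/-- a self-dual element of order five is not conjugate to its square -/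
theorem tr_sq_ne (hP : Quasi P) (h5 : (5 : F) ≠ 0) {u : P} (hu : u ^ 5 = 1) (hu1 : u ≠ 1)
    (hinv : tr u⁻¹ = tr u) : tr (u ^ 2) ≠ tr u := by
  intro h2
  obtain ⟨A, hA⟩ : ∃ A : M3, A = ((u : GL (Fin 3) F) : M3) := ⟨_, rfl⟩
  have hd : A.det = 1 := hA ▸ CfsgLib.Perm.Trans.ThreeDim.det_one_of_mem hP.le_sl u.2
  have hadj : A.adjugate = (((u⁻¹ : P) : GL (Fin 3) F) : M3) := by
    have h1 : A * A.adjugate = 1 := by rw [Matrix.mul_adjugate, hd, one_smul]
    calc A.adjugate = ((((u⁻¹ : P) : GL (Fin 3) F) : M3) * A) * A.adjugate := by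
          rw [hA, Subgroup.coe_inv, Units.inv_mul, one_mul]
      _ = _ := by rw [mul_assoc, h1, mul_one]
  have hs : A.adjugate.trace = A.trace := by rw [hadj, hA]; exact hinv
  have ht2 : (A * A).trace = A.trace := by rw [← pow_two, hA, ← mat_pow]; exact h2
  have key : (A * A).trace = A.trace * A.trace - 2 * A.adjugate.trace := by
    rw [Matrix.adjugate_fin_three, Matrix.trace_fin_three, Matrix.trace_fin_three, Matrix.trace_fin_three]
    simp [Matrix.mul_apply, Fin.sum_univ_three]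
    ring
  have ch : A * (A * A) = A.trace • (A * A) - A.adjugate.trace • A + A.det • (1 : M3) := by
    rw [Matrix.adjugate_fin_three, Matrix.trace_fin_three, Matrix.trace_fin_three, Matrix.det_fin_three]
    ext i j
    fin_cases i <;> fin_cases j <;> simp [Matrix.mul_apply, Fin.sum_univ_three] <;> ring
  have hA5 : A ^ 5 = 1 := by rw [hA, ← mat_pow, hu]; rfl
  have hu1' : A ≠ 1 := fun h => hu1 (Subtype.ext (Units.ext (by rw [← hA, h]; rfl)))
  have ht : A.trace = 0 ∨ A.trace = 3 := by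
    have : A.trace * (A.trace - 3) = 0 := by linear_combination ht2 - key + 2 * hs
    rcases mul_eq_zero.1 this with h | h
    · exact Or.inl h
    · exact Or.inr (by linear_combination h)
  rw [hs, hd, one_smul] at ch
  rcases ht with t0 | t3
  · rw [t0, zero_smul, zero_smul, sub_zero, zero_add] at ch
    have h3 : A ^ 3 = 1 := by rw [pow_succ', pow_two, ch]
    refine hu1' ?_
    calc A = A ^ 1 := (pow_one A).symm
      _ = A ^ (3 * 2) := by rw [show (3 : ℕ) * 2 = 5 + 1 from rfl, pow_add A 5, hA5, one_mul]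
      _ = 1 := by rw [pow_mul, h3, one_pow]
  · rw [t3] at ch
    obtain ⟨N, rfl⟩ : ∃ N, A = 1 + N := ⟨A - 1, (add_sub_cancel _ _).symm⟩
    have hN : N * (N * N) = 0 := by
      have : (1 + N) * ((1 + N) * (1 + N)) - ((3 : F) • ((1 + N) * (1 + N)) - (3 : F) • (1 + N) + 1) = 0 :=
        sub_eq_zero.2 ch
      rw [← this]
      simp only [mul_add, add_mul, one_mul, mul_one]
      module
    have h3 : N * (N * (N * N)) = 0 := by rw [hN, mul_zero]
    have h4 : N * (N * (N * (N * N))) = 0 := by rw [h3, mul_zero]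
    have hex : (5 : F) • N + (10 : F) • (N * N) = 0 := by
      have h := hA5
      simp only [pow_succ', pow_zero, mul_one, mul_add, add_mul, one_mul, hN, h3, h4, mul_zero, add_zero] at h
      rw [← sub_eq_zero] at h
      rw [← h]
      module
    have hN2 : N * N = 0 := by
      have h := congrArg (fun X => N * X) hex
      simp only [mul_add, Matrix.mul_smul, hN, smul_zero, add_zero, mul_zero] at h
      exact (smul_eq_zero.1 h).resolve_left h5
    rw [hN2, smul_zero, add_zero] at hex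
    exact hu1' (by rw [(smul_eq_zero.1 hex).resolve_left h5, add_zero])

variable {p : ℕ} [hp : Fact p.Prime] [CharP F p]

/-- a self-dual element killed by four has trace in the prime field -/
theorem tr_pow_four {u : P} (hu : u ^ 4 = 1) (hinv : tr u⁻¹ = tr u) : tr u ^ p = tr u := by
  rw [← tr_pow_char]
  have hp' := hp.out
  by_cases h2 : p = 2
  · subst h2
    have h4 : ∀ g : P, g ^ (2 ^ 2) = 1 → tr g = 3 := fun g hg => by
      have h : tr g ^ (2 ^ 2) = (3 : F) ^ (2 ^ 2) := by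
        rw [← tr_pow_char_pow, hg, tr_one]
        exact (map_natCast (iterateFrobenius F 2 2) 3).symm
      exact (iterateFrobenius F 2 2).injective (by simpa [iterateFrobenius_def] using h)
    rw [h4 (u ^ 2) (by rw [← pow_mul, mul_comm, pow_mul]; norm_num [hu]), h4 u hu]
  · have := hp'.eq_two_or_odd.resolve_left h2
    rw [pow_eq_pow_mod p hu]
    rcases (show p % 4 = 1 ∨ p % 4 = 3 by omega) with h | h <;> rw [h]
    · rw [pow_one]
    · rw [show u ^ 3 = u⁻¹ from eq_inv_of_mul_eq_one_left (by rw [← pow_succ, hu]), hinv]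

variable {K : Type v} [Field K] [Fintype K]

/-- elements of order three modulo scalars have trace zero -/
theorem tr_three_eq_zero (hP : Quasi P) (h9 : Fintype.card K = 9)
    (e : (P ⧸ scal P) ≃* Matrix.ProjectiveSpecialLinearGroup (Fin 2) K) (hne : scal P ≠ ⊥)
    {g : P} (hg3 : g ^ 3 ∈ scal P) (hg : g ∉ scal P) : tr g = 0 := by
  classical
  haveI : Fact (Nat.Prime 3) := ⟨Nat.prime_three⟩
  haveI : CharP K 3 := by
    obtain ⟨ℓ, hchar⟩ := CharP.exists K
    haveI := hchar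
    obtain ⟨k, hℓ, hk⟩ := FiniteField.card K ℓ
    rw [h9] at hk
    have h3 : ℓ = 3 := (Nat.prime_dvd_prime_iff_eq hℓ Nat.prime_three).1
      (hℓ.dvd_of_dvd_pow (n := 2) ⟨ℓ ^ ((k : ℕ) - 1), by
        rw [← pow_succ', Nat.sub_add_cancel k.pos, ← hk]; norm_num⟩)
    exact h3 ▸ hchar
  let π : P →* Matrix.ProjectiveSpecialLinearGroup (Fin 2) K := e.toMonoidHom.comp (QuotientGroup.mk' (scal P))
  have hsurj : Function.Surjective π := e.surjective.comp (QuotientGroup.mk'_surjective _)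
  have hker : ∀ a : P, π a = 1 → a ∈ scal P := fun a h =>
    (QuotientGroup.eq_one_iff a).1 (e.injective (h.trans (map_one e).symm))
  obtain ⟨y0, s, hy0⟩ := exists_conj_uni (ℓ := 3) (by norm_num) (g := π g)
    (by
      rw [← map_pow]
      show e (QuotientGroup.mk (g ^ 3)) = 1
      rw [(QuotientGroup.eq_one_iff _).2 hg3, map_one])
  obtain ⟨y, rfl⟩ := hsurj y0
  rw [← tr_conj y g]
  obtain ⟨g', hg'⟩ : ∃ g', g' = y * g * y⁻¹ := ⟨_, rfl⟩
  rw [← hg']
  have hπg : π g' = uni s := by rw [hg', map_mul, map_mul, map_inv]; exact hy0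
  have hne1 : uni s ≠ (1 : Matrix.ProjectiveSpecialLinearGroup (Fin 2) K) := fun h => hg (hker g (by
    rw [h, mul_inv_eq_one, mul_eq_left] at hy0
    exact hy0))
  let T0 : Subgroup P := (uniGroup K).comap π
  have hg'T : g' ∈ T0 := ⟨s, hπg.symm⟩
  by_contra htr
  have hcomm : ∀ h ∈ T0, h * g' = g' * h := by
    intro h hh
    obtain ⟨r, hr⟩ := hh
    by_contra hne'
    obtain ⟨z, hz⟩ : ∃ z, z = g'⁻¹ * (h * g' * h⁻¹) := ⟨_, rfl⟩
    have hzs : z ∈ scal P := hker z (by
      rw [hz, map_mul, map_mul, map_mul, map_inv, map_inv, hπg, ← hr, uni_mul, add_comm r s, ← uni_mul]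
      group)
    have e1 : h * g' * h⁻¹ = g' * z := by rw [hz, mul_inv_cancel_left]
    obtain ⟨c, -, hc⟩ := scal_exists hP hzs
    have h1 : tr g' = c * tr g' := by
      conv_lhs => rw [← tr_conj h g', e1, tr_mul_scal hc]
    have hc1 : c = 1 := by
      by_contra hc1
      exact htr ((mul_eq_zero.1 (show (c - 1) * tr g' = 0 by linear_combination -h1)).resolve_left (sub_ne_zero.2 hc1))
    refine hne' ?_
    have hz1 : z = 1 := Subtype.ext (Units.ext (by rw [hc, hc1, one_smul]; rfl))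
    rw [hz1, mul_one, mul_inv_eq_iff_eq_mul] at e1
    exact e1
  -- the preimage of the unipotent group is abelian
  let U := uniGroup K
  haveI : IsMulCommutative U := ⟨⟨by
    rintro ⟨_, a, rfl⟩ ⟨_, b, rfl⟩; exact Subtype.ext (by show uni a * uni b = uni b * uni a; rw [uni_mul, uni_mul, add_comm])⟩⟩
  obtain ⟨x, hx⟩ : ∃ x : U, (x : Matrix.ProjectiveSpecialLinearGroup (Fin 2) K) = uni s := ⟨⟨_, s, rfl⟩, rfl⟩
  haveI : (Subgroup.zpowers x).Normal := Subgroup.normal_of_isMulCommutative (Subgroup.zpowers x)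
  let f : T0 →* U ⧸ Subgroup.zpowers x :=
    (QuotientGroup.mk' _).comp ((π.comp T0.subtype).codRestrict U fun a => a.2)
  haveI : IsCyclic (U ⧸ Subgroup.zpowers x) := by
    have hx3 : orderOf x = 3 := orderOf_eq_prime
      (Subtype.ext (by
        rw [SubgroupClass.coe_pow, hx, uni_pow, CharP.cast_eq_zero K 3, zero_mul, uni_zero]; rfl))
      (fun h => hne1 (by rw [← hx, h]; rfl))
    refine isCyclic_of_prime_card (p := 3) ?_
    have h := Subgroup.card_eq_card_quotient_mul_card_subgroup (Subgroup.zpowers x)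
    rw [show Nat.card U = 9 by rw [card_uniGroup, h9], Nat.card_zpowers, hx3] at h
    omega
  have hab : ∀ a b : T0, a * b = b * a := commutative_of_cyclic_center_quotient f fun a ha => by
    refine Subgroup.mem_center_iff.2 fun b => Subtype.ext ?_
    obtain ⟨i, hi⟩ := (QuotientGroup.eq_one_iff _).1 ha
    have hi' : π (g' ^ i) = π (a : P) := by
      rw [map_zpow, hπg, ← hx]
      exact congrArg Subtype.val hi
    have hz : (g' ^ i)⁻¹ * (a : P) ∈ scal P := hker _ (by rw [map_mul, map_inv, hi', inv_mul_cancel])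
    have c1 : Commute (b : P) (g' ^ i) := Commute.zpow_right (hcomm b b.2) i
    have c2 : Commute (b : P) ((g' ^ i)⁻¹ * (a : P)) := scal_comm hP hz b
    have := c1.mul_right c2
    rw [mul_inv_cancel_left] at this
    exact this.eq
  refine hne ?_
  obtain ⟨T⟩ : Nonempty (Sylow 3 P) := inferInstance
  refine scal_bot_of_abelian hP T fun a ha b hb => ?_
  obtain ⟨V, hV⟩ := exists_sylow_uni (K := K) (ℓ := 3) (by norm_num)
  obtain ⟨T', hT'⟩ := (T.2.map π).exists_le_sylow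
  obtain ⟨w0, hw⟩ := MulAction.exists_smul_eq (Matrix.ProjectiveSpecialLinearGroup (Fin 2) K) V T'
  obtain ⟨w, rfl⟩ := hsurj w0
  have hpre : ∀ c ∈ (T : Subgroup P), w⁻¹ * c * w ∈ T0 := by
    intro c hc
    have := hT' (Subgroup.mem_map_of_mem π hc)
    rw [← hw, Sylow.coe_subgroup_smul, hV] at this
    obtain ⟨u, hu, hu'⟩ := this
    have hu'' : π w * u * (π w)⁻¹ = π c := hu'
    show π (w⁻¹ * c * w) ∈ uniGroup K
    rw [map_mul, map_mul, map_inv, ← hu'']
    have e' : (π w)⁻¹ * (π w * u * (π w)⁻¹) * π w = u := by group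
    rw [e']
    exact hu
  have h1 := congrArg Subtype.val (hab ⟨_, hpre a ha⟩ ⟨_, hpre b hb⟩)
  simp only [Subgroup.coe_mul] at h1
  calc a * b = w * (w⁻¹ * a * w * (w⁻¹ * b * w)) * w⁻¹ := by group
    _ = _ := by rw [h1]; group

omit [CharP F p] in
theorem exists_order_scal (hP : Quasi P) (h9 : Fintype.card K = 9)
    (e : (P ⧸ scal P) ≃* Matrix.ProjectiveSpecialLinearGroup (Fin 2) K) :
    Nat.card (P ⧸ scal P) = 360 ∧ Nonempty ((P ⧸ scal P) ≃* alternatingGroup (Fin 6)) ∧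
      ∀ g : P, g ∈ scal P ∨ g ^ 4 ∈ scal P ∨ (g ^ 3 ∈ scal P ∧ g ∉ scal P) ∨ g ^ 5 ∈ scal P := by
  classical
  haveI := hP.simple
  have hcard : Nat.card (P ⧸ scal P) = 360 := by
    have h := CfsgLib.Char.TwoChars.card_psl_odd (F := K) (by rw [h9]; decide)
    rw [← Nat.card_congr e.toEquiv, h9] at h
    omega
  obtain ⟨e6⟩ := Cfsg.Agent.S0497.result hcard
  refine ⟨hcard, ⟨e6⟩, fun g => ?_⟩
  have hord := CfsgLib.Char.TwoChars.orderOf_mem_altSixOrders (e6 (QuotientGroup.mk g))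
  rw [MulEquiv.orderOf_eq] at hord
  have hpow : ∀ n, orderOf (QuotientGroup.mk g : P ⧸ scal P) ∣ n → g ^ n ∈ scal P := fun n hn =>
    (QuotientGroup.eq_one_iff _).1 (by rw [QuotientGroup.mk_pow]; exact orderOf_dvd_iff_pow_eq_one.1 hn)
  simp only [CfsgLib.Char.TwoChars.altSixOrders, Finset.mem_insert, Finset.mem_singleton] at hord
  rcases hord with h | h | h | h | h
  · exact Or.inl ((QuotientGroup.eq_one_iff _).1 (orderOf_eq_one_iff.1 h))
  · exact Or.inr (Or.inl (hpow 4 (by rw [h]; decide)))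
  · refine Or.inr (Or.inr (Or.inl ⟨hpow 3 h.dvd, fun hm => ?_⟩))
    rw [(QuotientGroup.eq_one_iff g).2 hm, orderOf_one] at h
    exact absurd h (by decide)
  · exact Or.inr (Or.inl (hpow 4 h.dvd))
  · exact Or.inr (Or.inr (Or.inr (hpow 5 h.dvd)))

/-- traces with socle `A₆`: a cube root of unity times a real trace -/
theorem nine_decomp (hP : Quasi P) (h9 : Fintype.card K = 9) (hne : scal P ≠ ⊥) (hp3 : p ≠ 3)
    (e : (P ⧸ scal P) ≃* Matrix.ProjectiveSpecialLinearGroup (Fin 2) K) :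
    (∀ g : P, ∃ c t : F, c ^ 3 = 1 ∧ tr g = c * t ∧ tr g⁻¹ = c ^ 2 * t ∧ t ^ (p ^ 2) = t ∧
      ((p % 5 = 1 ∨ p % 5 = 4 ∨ p = 5) → t ^ p = t)) ∧
    ((p % 5 = 2 ∨ p % 5 = 3) → ∃ u : P, tr u⁻¹ = tr u ∧ tr u ^ p ≠ tr u) := by
  classical
  obtain ⟨hcard, -, hord⟩ := exists_order_scal hP h9 e
  let π : P →* Matrix.ProjectiveSpecialLinearGroup (Fin 2) K := e.toMonoidHom.comp (QuotientGroup.mk' (scal P))
  have h2 : (2 : K) ≠ 0 := by
    intro h
    obtain ⟨ℓ, hchar⟩ := CharP.exists K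
    haveI := hchar
    obtain ⟨k, hℓ, hk⟩ := FiniteField.card K ℓ
    have h2ℓ : ℓ = 2 := (Nat.prime_dvd_prime_iff_eq hℓ Nat.prime_two).1 ((CharP.cast_eq_zero_iff K ℓ 2).1 (by exact_mod_cast h))
    rw [h9, h2ℓ] at hk
    have : 2 ∣ 9 := hk ▸ dvd_pow_self 2 k.ne_zero
    omega
  have hsq : IsSquare (-1 : K) := (FiniteField.isSquare_neg_one_iff (F := K)).2 (by omega)
  have hreal : ∀ g : P, ∃ y : P, g * (y * g * y⁻¹) ∈ scal P := by
    intro g
    obtain ⟨y0, hy0⟩ := psl_real_of_square h2 hsq (π g)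
    obtain ⟨y, rfl⟩ := (e.surjective.comp (QuotientGroup.mk'_surjective (scal P))) y0
    refine ⟨y, (QuotientGroup.eq_one_iff _).1 (e.injective ?_)⟩
    show π (g * (y * g * y⁻¹)) = e 1
    rw [map_one, map_mul, map_mul, map_mul, map_inv]
    exact (congrArg (π g * ·) hy0).trans (mul_inv_cancel _)
  have hinv : ∀ {u : P} {n : ℕ}, ¬ 3 ∣ n → u ^ n = 1 → tr u⁻¹ = tr u := fun {u n} h3 hu => by
    obtain ⟨y, hy⟩ := hreal u
    exact tr_inv_of_real hP h3 hu hy
  have h3p : ∀ k, (3 : F) ^ (p ^ k) = 3 := fun k => map_natCast (iterateFrobenius F p k) 3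
  have h0 : ∀ k, (0 : F) ^ (p ^ k) = 0 := fun k => zero_pow (pow_pos hp.out.pos k).ne'
  have hfive : ∀ {u : P}, u ^ 5 = 1 → (p % 5 = 1 ∨ p % 5 = 4 → tr u ^ p = tr u) ∧
      (p = 5 → tr u ^ p = tr u) ∧ tr u ^ (p ^ 2) = tr u ∧ (p % 5 = 2 ∨ p % 5 = 3 → tr u ^ p = tr (u ^ 2)) := by
    intro u hu
    have hi := hinv (n := 5) (by decide) hu
    have h4 : u ^ 4 = u⁻¹ := eq_inv_of_mul_eq_one_left (by rw [← pow_succ, hu])
    have hlow : p % 5 = 1 ∨ p % 5 = 4 → tr u ^ p = tr u := by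
      intro h
      rw [← tr_pow_char, pow_eq_pow_mod p hu]
      rcases h with h | h <;> rw [h]
      · rw [pow_one]
      · rw [h4, hi]
    have h5c : p = 5 → tr u ^ p = tr u := by
      intro h
      subst h
      rw [tr_of_pow_char (p := 5) hu]
      simpa using h3p 1
    refine ⟨hlow, h5c, ?_, fun h => ?_⟩
    · by_cases hp5 : p = 5
      · rw [pow_two, pow_mul, h5c hp5, h5c hp5]
      · have hn : p % 5 ≠ 0 := fun h => hp5 ((Nat.prime_dvd_prime_iff_eq (by norm_num) hp.out).1 (Nat.dvd_of_mod_eq_zero h)).symm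
        rw [← tr_pow_char_pow, pow_eq_pow_mod _ hu, Nat.pow_mod]
        rcases (show p % 5 = 1 ∨ p % 5 = 2 ∨ p % 5 = 3 ∨ p % 5 = 4 by omega) with h | h | h | h <;> rw [h] <;> norm_num
        · rw [h4, hi]
        · rw [h4, hi]
    · rw [← tr_pow_char, pow_eq_pow_mod p hu]
      rcases h with h | h <;> rw [h]
      rw [show u ^ 3 = (u ^ 2)⁻¹ from eq_inv_of_mul_eq_one_left (by rw [← pow_add, hu])]
      exact hinv (n := 5) (by decide) (by rw [← pow_mul, mul_comm, pow_mul, hu, one_pow])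
  refine ⟨fun g => ?_, fun h => ?_⟩
  · rcases hord g with hg | hg | ⟨hg, hg'⟩ | hg
    · obtain ⟨c, hc3, hc⟩ := scal_exists hP hg
      obtain ⟨d, hd3, hd⟩ := scal_exists hP (inv_mem hg)
      have hdc : d = c ^ 2 := by
        have h1 := congrArg (fun x : P => ((x : GL (Fin 3) F) : M3)) (inv_mul_cancel g)
        simp only [Subgroup.coe_mul, Units.val_mul, hd, hc, Matrix.smul_mul, one_mul, smul_smul] at h1
        have h11 := congrFun (congrFun h1 0) 0
        simp at h11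
        linear_combination c ^ 2 * h11 - d * hc3
      refine ⟨c, 3, hc3, ?_, ?_, h3p 2, fun _ => by simpa using h3p 1⟩
      · have := tr_mul_scal hc (1 : P); rwa [one_mul, tr_one] at this
      · have := tr_mul_scal hd (1 : P); rwa [one_mul, tr_one, hdc] at this
    · obtain ⟨z, hz, hu⟩ := exists_lift hP hg (by decide)
      obtain ⟨c, hc3, hc⟩ := scal_exists hP hz
      have hi := hinv (n := 4) (by decide) hu
      have ht := tr_pow_four (p := p) hu hi
      refine ⟨c ^ 2, tr (g * z), by rw [← pow_mul, mul_comm, pow_mul, hc3, one_pow], ?_, ?_, ?_, fun _ => ht⟩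
      · rw [tr_mul_scal hc]; linear_combination -(tr g) * hc3
      · have e1 : g⁻¹ = (g * z)⁻¹ * z := by
          rw [scal_comm hP hz g, _root_.mul_inv_rev, mul_assoc, inv_mul_cancel, mul_one]
        rw [e1, tr_mul_scal hc, hi]
        linear_combination -(c * tr (g * z)) * hc3
      · rw [pow_two, pow_mul, ht, ht]
    · refine ⟨1, 0, one_pow 3, ?_, ?_, h0 2, fun _ => by simpa using h0 1⟩
      · rw [mul_zero]; exact tr_three_eq_zero hP h9 e hne hg hg'
      · rw [mul_zero]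
        exact tr_three_eq_zero hP h9 e hne (by rw [inv_pow]; exact inv_mem hg) (fun h => hg' (inv_mem_iff.1 h))
    · obtain ⟨z, hz, hu⟩ := exists_lift hP hg (by decide)
      obtain ⟨c, hc3, hc⟩ := scal_exists hP hz
      have hi := hinv (n := 5) (by decide) hu
      obtain ⟨a, b, c', -⟩ := hfive hu
      refine ⟨c ^ 2, tr (g * z), by rw [← pow_mul, mul_comm, pow_mul, hc3, one_pow], ?_, ?_, c', fun h => ?_⟩
      · rw [tr_mul_scal hc]; linear_combination -(tr g) * hc3
      · have e1 : g⁻¹ = (g * z)⁻¹ * z := by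
          rw [scal_comm hP hz g, _root_.mul_inv_rev, mul_assoc, inv_mul_cancel, mul_one]
        rw [e1, tr_mul_scal hc, hi]
        linear_combination -(c * tr (g * z)) * hc3
      · rcases h with h | h | h
        exacts [a (Or.inl h), a (Or.inr h), b h]
  · haveI : Fact (Nat.Prime 5) := ⟨by norm_num⟩
    obtain ⟨u, hu⟩ := exists_prime_orderOf_dvd_card' (G := P) 5
      (((by rw [hcard]; norm_num : 5 ∣ Nat.card (P ⧸ scal P))).trans
        (Dvd.intro _ (Subgroup.card_eq_card_quotient_mul_card_subgroup (scal P)).symm))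
    have hu5 : u ^ 5 = 1 := hu ▸ pow_orderOf_eq_one u
    have hu1 : u ≠ 1 := fun h => by rw [h, orderOf_one] at hu; exact absurd hu (by decide)
    have h5 : (5 : F) ≠ 0 := by
      intro hz
      have : p = 5 := (Nat.prime_dvd_prime_iff_eq hp.out (by norm_num)).1
        ((CharP.cast_eq_zero_iff F p 5).1 (by exact_mod_cast hz))
      omega
    exact ⟨u, hinv (n := 5) (by decide) hu5, by
      rw [(hfive hu5).2.2.2 h]; exact tr_sq_ne hP h5 hu5 hu1 (hinv (n := 5) (by decide) hu5)⟩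

/-- With `p` congruent to one or four modulo five, or five: Frobenius fixes or dualises the traces. -/
theorem nine_traces (hP : Quasi P) (h9 : Fintype.card K = 9) (hne : scal P ≠ ⊥) (hp3 : p ≠ 3)
    (e : (P ⧸ scal P) ≃* Matrix.ProjectiveSpecialLinearGroup (Fin 2) K)
    (h5 : p % 5 = 1 ∨ p % 5 = 4 ∨ p = 5) :
    (p % 3 = 1 ∧ ∀ g : P, tr g ^ p = tr g) ∨ (p % 3 = 2 ∧ ∀ g : P, tr g ^ p = tr g⁻¹) := by
  have hn : p % 3 ≠ 0 := fun h => hp3 ((Nat.prime_dvd_prime_iff_eq (by norm_num) hp.out).1 (Nat.dvd_of_mod_eq_zero h)).symm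
  rcases (show p % 3 = 1 ∨ p % 3 = 2 by omega) with h | h
  · refine Or.inl ⟨h, fun g => ?_⟩
    obtain ⟨c, t, hc, h1, h2, -, ht⟩ := (nine_decomp hP h9 hne hp3 e).1 g
    rw [h1, mul_pow, ht h5, pow_eq_pow_mod p hc, h, pow_one]
  · refine Or.inr ⟨h, fun g => ?_⟩
    obtain ⟨c, t, hc, h1, h2, -, ht⟩ := (nine_decomp hP h9 hne hp3 e).1 g
    rw [h1, h2, mul_pow, ht h5, pow_eq_pow_mod p hc, h]

omit [CharP F p] in
theorem five_cases (h : p ≠ 5) : p % 5 = 1 ∨ p % 5 = 4 ∨ p % 5 = 2 ∨ p % 5 = 3 := by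
  have hn : p % 5 ≠ 0 := fun h' => h ((Nat.prime_dvd_prime_iff_eq (by norm_num) hp.out).1 (Nat.dvd_of_mod_eq_zero h')).symm
  omega

theorem nine_sq_traces (hP : Quasi P) (h9 : Fintype.card K = 9) (hne : scal P ≠ ⊥) (hp3 : p ≠ 3)
    (e : (P ⧸ scal P) ≃* Matrix.ProjectiveSpecialLinearGroup (Fin 2) K) (g : P) :
    tr g ^ (p ^ 2) = tr g := by
  obtain ⟨c, t, hc, h1, -, ht, -⟩ := (nine_decomp hP h9 hne hp3 e).1 g
  have hn : p % 3 ≠ 0 := fun h => hp3 ((Nat.prime_dvd_prime_iff_eq (by norm_num) hp.out).1 (Nat.dvd_of_mod_eq_zero h)).symm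
  rw [h1, mul_pow, ht, pow_eq_pow_mod _ hc, Nat.pow_mod]
  rcases (show p % 3 = 1 ∨ p % 3 = 2 by omega) with h | h <;> rw [h] <;> norm_num

/-- socle `A₆`, linear case -/
theorem nine_linear (hP : Quasi P) (hsub : NoSubfield P) (hQ : ¬ FixesQuad P) (hU : ¬ FixesHerm P)
    (h9 : Fintype.card K = 9) (hp3 : p ≠ 3) (hne : scal P ≠ ⊥)
    (e : (P ⧸ scal P) ≃* Matrix.ProjectiveSpecialLinearGroup (Fin 2) K) :
    Nonempty ((P ⧸ scal P) ≃* alternatingGroup (Fin 6)) ∧
      ((Fintype.card F = p ∧ (p % 15 = 1 ∨ p % 15 = 4)) ∨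
        (Fintype.card F = p ^ 2 ∧ p ≠ 3 ∧ (p % 5 = 2 ∨ p % 5 = 3))) := by
  refine ⟨(exists_order_scal hP h9 e).2.1, ?_⟩
  by_cases h5 : p % 5 = 1 ∨ p % 5 = 4 ∨ p = 5
  · rcases nine_traces hP h9 hne hp3 e h5 with ⟨h, ht⟩ | ⟨-, ht⟩
    · exact Or.inl ⟨card_eq_prime (p := p) hP hsub ht, by omega⟩
    · exact absurd (fixesHerm_of_frobenius (p := p) hP hsub hQ ht) hU
  · have h23 : p % 5 = 2 ∨ p % 5 = 3 := by
      have := five_cases (p := p) (fun h => h5 (Or.inr (Or.inr h)))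
      omega
    refine Or.inr ⟨(card_eq_or_sq (p := p) hP hsub (nine_sq_traces hP h9 hne hp3 e)).resolve_left fun hc => ?_, hp3, h23⟩
    obtain ⟨u, -, hu⟩ := (nine_decomp hP h9 hne hp3 e).2 h23
    exact hu (by conv_lhs => rw [← hc, FiniteField.pow_card])

/-- socle `A₆`, unitary case -/
theorem nine_unitary (q : ℕ) (hF : Fintype.card F = q ^ 2) (hq : 3 ≤ q) (hP : Quasi P) (hle : P ≤ Cfsg.GU 3 F q)
    (hsub : NoSubfield P) (hQ : ¬ FixesQuad P) (h9 : Fintype.card K = 9) (hp3 : p ≠ 3) (hne : scal P ≠ ⊥)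
    (e : (P ⧸ scal P) ≃* Matrix.ProjectiveSpecialLinearGroup (Fin 2) K) :
    q.Prime ∧ Nonempty ((P ⧸ scal P) ≃* alternatingGroup (Fin 6)) ∧ (q % 15 = 11 ∨ q % 15 = 14 ∨ q = 5) := by
  have hiso := (exists_order_scal hP h9 e).2.1
  by_cases h5 : p % 5 = 1 ∨ p % 5 = 4 ∨ p = 5
  · rcases nine_traces hP h9 hne hp3 e h5 with ⟨h, ht⟩ | ⟨h, ht⟩
    · exact (q_absurd (p := p) (by omega) hF (card_eq_prime (p := p) hP hsub ht)).elim
    · obtain rfl := q_eq_char (p := p) hF (card_eq_sq (p := p) hP hsub hQ ht)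
      exact ⟨hp.out, hiso, by omega⟩
  · exfalso
    have h23 : p % 5 = 2 ∨ p % 5 = 3 := by
      have := five_cases (p := p) (fun h => h5 (Or.inr (Or.inr h)))
      omega
    obtain ⟨u, hi, hu⟩ := (nine_decomp hP h9 hne hp3 e).2 h23
    rcases card_eq_or_sq (p := p) hP hsub (nine_sq_traces hP h9 hne hp3 e) with hc | hc
    · exact hu (by conv_lhs => rw [← hc, FiniteField.pow_card])
    · obtain rfl := q_eq_char (p := p) hF hc
      exact hu ((trace_inv_of_mem_GU hF (hle u.2)).symm.trans hi)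

end CfsgLib.Perm.Trans.ThreeRes.Socle
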