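import Cfsg.Agent.Lib.Perm.Trans.ThreeRes.Socle.Galois
import Cfsg.Agent.Lib.Char.SmallSpectra

/-!
# The socle `A₇`
-/

set_option autoImplicit false
set_option linter.all false

namespace CfsgLib.Perm.Trans.ThreeRes.Socle

open Matrix Cfsg.Geo Equiv

local notation "A7" => alternatingGroup (Fin 7)

/-- a condition on a permutation, invariant under conjugation -/
def SevenGood (σ : Perm (Fin 7)) : Prop :=
  σ ^ 5 = 1 ∨ (∃ n, (n = 1 ∨ n = 2 ∨ n = 4 ∨ n = 7) ∧ σ ^ n = 1 ∧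
    ∃ w : Perm (Fin 7), Perm.sign w = 1 ∧ w * σ⁻¹ * w⁻¹ = σ ^ 5) ∨
    (∃ n, (n = 3 ∨ n = 6) ∧ σ ^ n = 1 ∧ ∃ w : Perm (Fin 7), Perm.sign w = 1 ∧ w * σ * w⁻¹ = σ⁻¹)

theorem SevenGood.conj {σ : Perm (Fin 7)} (h : SevenGood σ) (b : Perm (Fin 7)) : SevenGood (b * σ * b⁻¹) := by
  rcases h with h | ⟨n, hn, h, w, hw, hwσ⟩ | ⟨n, hn, h, w, hw, hwσ⟩
  · exact Or.inl (by rw [conj_pow, h, mul_one, mul_inv_cancel])
  · refine Or.inr (Or.inl ⟨n, hn, by rw [conj_pow, h, mul_one, mul_inv_cancel], b * w * b⁻¹, ?_, ?_⟩)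
    · rw [map_mul, map_mul, map_inv, hw, mul_one, mul_inv_cancel]
    · rw [conj_pow, ← hwσ]; group
  · refine Or.inr (Or.inr ⟨n, hn, by rw [conj_pow, h, mul_one, mul_inv_cancel], b * w * b⁻¹, ?_, ?_⟩)
    · rw [map_mul, map_mul, map_inv, hw, mul_one, mul_inv_cancel]
    · calc b * w * b⁻¹ * (b * σ * b⁻¹) * (b * w * b⁻¹)⁻¹ = b * (w * σ * w⁻¹) * b⁻¹ := by group
        _ = (b * σ * b⁻¹)⁻¹ := by rw [hwσ]; group

theorem sevenGood_all (x : A7) : SevenGood (x : Perm (Fin 7)) := by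
  set σ : Perm (Fin 7) := x.1 with hσ
  obtain ⟨l, hl, hsort⟩ : ∃ l : List ℕ, (l : Multiset ℕ) = σ.cycleType ∧ l.Pairwise (· ≤ ·) :=
    ⟨σ.cycleType.sort (· ≤ ·), Multiset.sort_eq _ _, Multiset.pairwise_sort _ _⟩
  have h2 : ∀ a ∈ l, 2 ≤ a := fun a ha => Perm.two_le_of_mem_cycleType (σ := σ) (by rw [← hl]; exact ha)
  have hs : l.sum ≤ 7 := by
    have h := Perm.sum_cycleType σ
    rw [← hl, Multiset.sum_coe] at h
    rw [h]
    exact le_of_le_of_eq (Finset.card_le_univ _) (Fintype.card_fin 7)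
  have hlen : l.length ≤ 3 := by
    have h : l.length * 2 ≤ l.sum := by simpa using List.card_nsmul_le_sum l 2 h2
    omega
  have hev : (l.sum + l.length) % 2 = 0 := by
    have h1 : Perm.sign σ = 1 := x.2
    rw [Perm.sign_of_cycleType, ← hl, Multiset.sum_coe, Multiset.coe_card] at h1
    rcases Nat.even_or_odd (l.sum + l.length) with he | ho
    · exact Nat.even_iff.mp he
    · rw [ho.neg_one_pow] at h1
      exact absurd h1 (by decide)
  have hmem := CfsgLib.Char.mem_cycleLists 3 7 2 l hlen hs hsort h2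
  have key : ∀ c : Perm (Fin 7), c.cycleType = (l : Multiset ℕ) → SevenGood c → SevenGood σ := by
    intro c hc hg
    obtain ⟨b, hb⟩ := isConj_iff.1 (Perm.isConj_iff_cycleType_eq.2 (hc.trans hl) : IsConj c σ)
    exact hb ▸ hg.conj b
  have hall : ∀ l' ∈ CfsgLib.Char.cycleLists 3 7 2, (l'.sum + l'.length) % 2 = 0 →
      l' ∈ ([[], [2, 2], [3], [3, 3], [2, 4], [5], [2, 2, 3], [7]] : List (List ℕ)) := by decide +kernel
  have hm := hall l hmem hev
  simp only [List.mem_cons, List.not_mem_nil, or_false] at hm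
  rcases hm with rfl | rfl | rfl | rfl | rfl | rfl | rfl | rfl
  · exact key 1 (by simp) (Or.inl (one_pow 5))
  · exact key (c[0, 1] * c[2, 3]) (by decide +kernel)
      (Or.inr (Or.inl ⟨2, by omega, by decide +kernel, 1, map_one _, by decide +kernel⟩))
  · exact key c[0, 1, 2] (by decide +kernel)
      (Or.inr (Or.inr ⟨3, by omega, by decide +kernel, c[1, 2] * c[5, 6], by decide +kernel, by decide +kernel⟩))
  · exact key (c[0, 1, 2] * c[3, 4, 5]) (by decide +kernel)
      (Or.inr (Or.inr ⟨3, by omega, by decide +kernel, c[1, 2] * c[4, 5], by decide +kernel, by decide +kernel⟩))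
  · exact key (c[0, 1, 2, 3] * c[4, 5]) (by decide +kernel)
      (Or.inr (Or.inl ⟨4, by omega, by decide +kernel, c[1, 3] * c[4, 5], by decide +kernel, by decide +kernel⟩))
  · exact key c[0, 1, 2, 3, 4] (by decide +kernel) (Or.inl (by decide +kernel))
  · exact key (c[0, 1, 2] * c[3, 4] * c[5, 6]) (by decide +kernel)
      (Or.inr (Or.inr ⟨6, by omega, by decide +kernel, c[1, 2] * c[5, 6], by decide +kernel, by decide +kernel⟩))
  · exact key c[0, 1, 2, 3, 4, 5, 6] (by decide +kernel)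
      (Or.inr (Or.inl ⟨7, by omega, by decide +kernel, c[1, 2, 4] * c[3, 6, 5], by decide +kernel, by decide +kernel⟩))

/-- an element of order five conjugate to its square -/
def fiveCycle : A7 := ⟨c[0, 1, 2, 3, 4], Perm.mem_alternatingGroup.2 (by decide +kernel)⟩

/-- the conjugating element -/
def fiveConj : A7 := ⟨c[1, 2, 4, 3] * c[5, 6], Perm.mem_alternatingGroup.2 (by decide +kernel)⟩

theorem fiveCycle_facts : fiveCycle ^ 5 = 1 ∧ fiveCycle ≠ 1 ∧ fiveConj * fiveCycle * fiveConj⁻¹ = fiveCycle ^ 2 := by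
  decide +kernel

variable {F : Type*} [Field F] [Fintype F] {P : Subgroup (GL (Fin 3) F)}

theorem conj_exact (hP : Quasi P) {u y : P} {n k : ℕ} (h3 : ¬ 3 ∣ n) (hu : u ^ n = 1)
    (hy : (u ^ k)⁻¹ * (y * u * y⁻¹) ∈ scal P) : y * u * y⁻¹ = u ^ k := by
  obtain ⟨z, hz⟩ : ∃ z, z = (u ^ k)⁻¹ * (y * u * y⁻¹) := ⟨_, rfl⟩
  rw [← hz] at hy
  have hyu : y * u * y⁻¹ = u ^ k * z := by rw [hz, mul_inv_cancel_left]
  have hzn : z ^ n = 1 := by
    have h1 : (u ^ k * z) ^ n = 1 := by rw [← hyu, conj_pow, hu, mul_one, mul_inv_cancel]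
    have hc : Commute (u ^ k) z := scal_comm hP hy _
    rwa [hc.mul_pow, ← pow_mul, mul_comm k n, pow_mul, hu, one_pow, one_mul] at h1
  have hz1 : z = 1 := orderOf_eq_one_iff.1 (Nat.eq_one_of_dvd_coprimes
    ((Nat.prime_three.coprime_iff_not_dvd).2 h3) (orderOf_dvd_of_pow_eq_one (scal_cube hP hy))
    (orderOf_dvd_of_pow_eq_one hzn))
  rw [hyu, hz1, mul_one]

variable {p : ℕ} [hp : Fact p.Prime] [CharP F p]

/-- The socle `A₇` occurs in characteristic five only. -/
theorem seventh_char (hP : Quasi P) (e : (P ⧸ scal P) ≃* A7) : p = 5 := by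
  classical
  obtain ⟨hx5, hx1, hxy⟩ := fiveCycle_facts
  let π : P →* A7 := e.toMonoidHom.comp (QuotientGroup.mk' (scal P))
  have hker : ∀ a : P, π a = 1 ↔ a ∈ scal P := fun a =>
    ⟨fun h => (QuotientGroup.eq_one_iff a).1 (e.injective (h.trans (map_one e).symm)),
     fun h => by show e (QuotientGroup.mk a) = 1; rw [(QuotientGroup.eq_one_iff a).2 h, map_one]⟩
  obtain ⟨g, hg⟩ := (e.surjective.comp (QuotientGroup.mk'_surjective (scal P))) fiveCycle
  obtain ⟨y, hy⟩ := (e.surjective.comp (QuotientGroup.mk'_surjective (scal P))) fiveConj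
  have hg' : π g = fiveCycle := hg
  have hy' : π y = fiveConj := hy
  obtain ⟨z, hz, hu⟩ := exists_lift hP ((hker _).1 (by rw [map_pow, hg', hx5]) : g ^ 5 ∈ scal P) (by decide)
  obtain ⟨u, hu'⟩ : ∃ u, u = g * z := ⟨_, rfl⟩
  rw [← hu'] at hu
  have hπu : π u = fiveCycle := by rw [hu', map_mul, (hker z).2 hz, mul_one, hg']
  have hconj : y * u * y⁻¹ = u ^ 2 := conj_exact hP (n := 5) (by decide) hu ((hker _).1 (by
    rw [map_mul, map_mul, map_mul, map_inv, map_inv, map_pow, hπu, hy', hxy, inv_mul_cancel]))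
  haveI : Fact (Nat.Prime 5) := ⟨by norm_num⟩
  have hord : orderOf u = 5 := orderOf_eq_prime hu (fun h => hx1 (by rw [← hπu, h, map_one]))
  have hpow : ∀ (i j : ℕ), y ^ i * u ^ j * (y ^ i)⁻¹ = u ^ (2 ^ i * j) := by
    intro i
    induction i with
    | zero => intro j; simp
    | succ i ih =>
      intro j
      calc y ^ (i + 1) * u ^ j * (y ^ (i + 1))⁻¹ = y ^ i * (y * u ^ j * y⁻¹) * (y ^ i)⁻¹ := by
            rw [pow_succ]; group
        _ = _ := by rw [← conj_pow, hconj, ← pow_mul, ih]; congr 1; rw [pow_succ]; ring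
  have hmod : ∀ a b : ℕ, u ^ a = u ^ b ↔ a % 5 = b % 5 := fun a b => by rw [pow_inj_mod, hord]
  by_contra hp5
  let A := AlgebraicClosure F
  let ρ : P →* Matrix (Fin 3) (Fin 3) A :=
    ((algebraMap F A).mapMatrix : Matrix (Fin 3) (Fin 3) F →+* Matrix (Fin 3) (Fin 3) A).toMonoidHom.comp
      ((Units.coeHom (Matrix (Fin 3) (Fin 3) F)).comp P.subtype)
  have h5A : ((5 : ℕ) : A) ≠ 0 := by
    intro h
    haveI : CharP A p := charP_of_injective_algebraMap (algebraMap F A).injective p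
    exact hp5 ((Nat.prime_dvd_prime_iff_eq hp.out (by norm_num)).1 ((CharP.cast_eq_zero_iff A p 5).1 h))
  have hTinj : Set.InjOn (fun i : ℕ => y ^ i) (Finset.range 4) := by
    intro i hi j hj h
    simp only [Finset.coe_range, Set.mem_Iio] at hi hj
    have h1 := hpow i 1
    rw [show y ^ i = y ^ j from h, hpow j 1, hmod] at h1
    interval_cases i <;> interval_cases j <;> first | rfl | (revert h1; decide)
  have hb := card_le_of_fpf ρ (Subgroup.zpowers u)
    (by rintro _ ⟨a, rfl⟩ _ ⟨b, rfl⟩; exact ((Commute.refl u).zpow_zpow a b).eq) h5A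
    (by
      intro a ha
      exact orderOf_dvd_iff_pow_eq_one.1 (hord ▸ orderOf_dvd_of_mem_zpowers ha))
    ⟨u, Subgroup.mem_zpowers u, fun h => hx1 (by
      rw [← hπu, show u = 1 from Subtype.ext (Units.ext (Matrix.map_injective (algebraMap F A).injective
        (h.trans (map_one ρ).symm))), map_one])⟩
    ((Finset.range 4).image fun i => y ^ i)
    (by
      intro t ht a ha
      obtain ⟨i, -, rfl⟩ := Finset.mem_image.1 ht
      obtain ⟨j, rfl⟩ := (Subgroup.mem_zpowers_iff.1 ha)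
      rw [← conj_zpow]
      refine Subgroup.zpow_mem _ ?_ j
      have h1 := hpow i 1
      rw [pow_one] at h1
      rw [h1]
      exact Subgroup.npow_mem_zpowers _ _)
    (by
      intro s hs t ht hst w hw
      obtain ⟨i, hi, rfl⟩ := Finset.mem_image.1 hs
      obtain ⟨i', hi', rfl⟩ := Finset.mem_image.1 ht
      obtain ⟨m, rfl⟩ := (mem_powers_iff_mem_zpowers (x := u)).2 hw
      have hdec : ∀ a b : Fin 4, a ≠ b → ∀ m : Fin 5, ∃ j : Fin 5,
          (2 ^ (a : ℕ) * (j : ℕ)) % 5 = ((m : ℕ) + 2 ^ (b : ℕ) * (j : ℕ)) % 5 := by decide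
      obtain ⟨j, hj⟩ := hdec ⟨i, Finset.mem_range.1 hi⟩ ⟨i', Finset.mem_range.1 hi'⟩
        (fun h => hst (by rw [Fin.mk.injEq] at h; rw [h])) ⟨m % 5, Nat.mod_lt _ (by norm_num)⟩
      refine ⟨u ^ (j : ℕ), Subgroup.npow_mem_zpowers _ _, ?_⟩
      show y ^ i * u ^ (j : ℕ) * (y ^ i)⁻¹ = u ^ m * (y ^ i' * u ^ (j : ℕ) * (y ^ i')⁻¹)
      rw [hpow, hpow, ← pow_add, hmod, hj, Nat.add_mod, Nat.mod_mod, ← Nat.add_mod])
  rw [Finset.card_image_of_injOn hTinj, Finset.card_range] at hb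
  omega

/-- With socle `A₇` the fifth power dualises the traces. -/
theorem seventh_traces (hP : Quasi P) [CharP F 5] (e : (P ⧸ scal P) ≃* A7) (g : P) : tr g ^ 5 = tr g⁻¹ := by
  haveI : Fact (Nat.Prime 5) := ⟨by norm_num⟩
  let π : P →* A7 := e.toMonoidHom.comp (QuotientGroup.mk' (scal P))
  have hker : ∀ a : P, π a = 1 → a ∈ scal P := fun a h =>
    (QuotientGroup.eq_one_iff a).1 (e.injective (h.trans (map_one e).symm))
  have hsurj : Function.Surjective π := e.surjective.comp (QuotientGroup.mk'_surjective _)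
  -- reduction to an exact lift
  have hred : ∀ n, ¬ 3 ∣ n → g ^ n ∈ scal P →
      (∀ u : P, u ^ n = 1 → π u = π g → tr u ^ 5 = tr u⁻¹) → tr g ^ 5 = tr g⁻¹ := by
    intro n h3 hn h
    obtain ⟨z, hz, hu⟩ := exists_lift hP hn h3
    obtain ⟨c, hc3, hc⟩ := scal_exists hP hz
    have hπz : π z = 1 := by show e (QuotientGroup.mk z) = 1; rw [(QuotientGroup.eq_one_iff z).2 hz, map_one]
    have h5 := h _ hu (by rw [map_mul, hπz, mul_one])
    rw [tr_mul_scal hc, mul_pow] at h5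
    have e1 : g⁻¹ = (g * z)⁻¹ * z := by
      rw [scal_comm hP hz g, _root_.mul_inv_rev, mul_assoc, inv_mul_cancel, mul_one]
    rw [e1, tr_mul_scal hc, ← h5]
    linear_combination -(tr g ^ 5) * (c ^ 3 + 1) * hc3
  rcases sevenGood_all (π g) with h | ⟨n, hn, h, w, hw, hwσ⟩ | ⟨n, hn, h, w, hw, hwσ⟩
  · exact hred 5 (by decide) (hker _ (by rw [map_pow]; exact Subtype.ext h)) fun u hu _ => by
      rw [← tr_pow_char (p := 5), hu, tr_one, tr_of_pow_char (p := 5) (g := u⁻¹) (by rw [inv_pow, hu, inv_one])]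
  · refine hred n (by omega) (hker _ (by rw [map_pow]; exact Subtype.ext h)) fun u hu hπu => ?_
    obtain ⟨y, hy⟩ := hsurj ⟨w, hw⟩
    rw [← tr_pow_char (p := 5)]
    have h5 : u⁻¹ ^ (5 * (n - 1)) = u ^ 5 := by
      have hn1 : u⁻¹ ^ (n - 1) = u := by
        rw [inv_pow, inv_eq_iff_mul_eq_one, ← pow_succ, Nat.sub_add_cancel (by omega), hu]
      rw [mul_comm, pow_mul, hn1]
    rw [← h5]
    refine tr_eq_of_conj (y := y) hP (n := n) (by omega) (by rw [inv_pow, hu, inv_one]) ?_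
    rw [h5]
    refine hker _ ?_
    rw [map_mul, map_mul, map_mul, map_inv, map_inv, map_inv, map_pow, hπu, hy, inv_mul_eq_one]
    exact Subtype.ext hwσ.symm
  · obtain ⟨y, hy⟩ := hsurj ⟨w, hw⟩
    have h6 : g ^ 6 = 1 := by
      have h1 := pow_eq_one_of_real (y := y) hP (n := n) (by omega) (hker _ (by rw [map_pow]; exact Subtype.ext h))
        (hker _ (by
          rw [map_mul, map_mul, map_mul, map_inv, hy, mul_eq_one_iff_eq_inv']
          exact Subtype.ext hwσ))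
      rcases hn with rfl | rfl
      · rw [show (6 : ℕ) = 3 * 2 from rfl, pow_mul, h1, one_pow]
      · exact h1
    rw [← tr_pow_char (p := 5), show g ^ 5 = g⁻¹ from eq_inv_of_mul_eq_one_left (by rw [← pow_succ, h6])]

/-- socle `A₇` does not occur in the linear case -/
theorem seventh_linear (p : ℕ) [Fact p.Prime] [CharP F p] (hP : Quasi P) (hsub : NoSubfield P) (hQ : ¬ FixesQuad P) (hU : ¬ FixesHerm P)
    (e : (P ⧸ scal P) ≃* A7) : False := by
  obtain rfl := seventh_char (p := p) hP e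
  exact hU (fixesHerm_of_frobenius (p := 5) hP hsub hQ (seventh_traces hP e))

/-- socle `A₇`, unitary case -/
theorem seventh_unitary (p : ℕ) [Fact p.Prime] [CharP F p] (q : ℕ) (hF : Fintype.card F = q ^ 2) (hP : Quasi P) (hsub : NoSubfield P)
    (hQ : ¬ FixesQuad P) (e : (P ⧸ scal P) ≃* A7) : q = 5 := by
  obtain rfl := seventh_char (p := p) hP e
  exact q_eq_char (p := 5) hF (card_eq_sq (p := 5) hP hsub hQ (seventh_traces hP e))

end CfsgLib.Perm.Trans.ThreeRes.Socle
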