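import Cfsg.Agent.Lib.Perm.Trans.ThreeRes.Socle.Seven
import Cfsg.Agent.Lib.Perm.Trans.ThreeRes.Socle.Nine
import Cfsg.Agent.Lib.Perm.Trans.ThreeRes.Socle.Seventh
import Cfsg.Agent.Lib.GW.Final
import Cfsg.Agent.Lib.GW.Setting

/-!
# The socles with dihedral Sylow two-subgroups in dimension three
-/

set_option autoImplicit false
set_option linter.all false

namespace CfsgLib.Perm.Trans.ThreeRes.Socle

open scoped Matrix commutatorElement
open Matrix Cfsg.Geo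

variable {F : Type*} [Field F] [Fintype F] {P : Subgroup (GL (Fin 3) F)}

/-- the quotient is `PSL(2, K)` or `A₇` -/
theorem socle_cases (hP : Quasi P) (hd : HasDihedralTwo P) :
    (∃ (K : Type) (_ : Field K) (_ : Fintype K), Odd (Fintype.card K) ∧ 3 < Fintype.card K ∧
        Nonempty ((P ⧸ scal P) ≃* Matrix.ProjectiveSpecialLinearGroup (Fin 2) K)) ∨
      Nonempty ((P ⧸ scal P) ≃* alternatingGroup (Fin 7)) := by
  haveI : Fact (Nat.Prime 2) := ⟨Nat.prime_two⟩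
  haveI := hP.simple
  obtain ⟨S, n, hn, ⟨e⟩⟩ := hd
  haveI : Group.IsPerfect (P ⧸ scal P) := by
    refine ⟨eq_top_iff.2 ?_⟩
    have h : commutator P = ⊤ := by
      refine (Subgroup.map_injective P.subtype_injective) ?_
      rw [Subgroup.map_subtype_commutator, hP.perfect, ← MonoidHom.range_eq_map, Subgroup.range_subtype]
    rw [← Subgroup.map_top_of_surjective (QuotientGroup.mk' (scal P)) (QuotientGroup.mk'_surjective _), ← h,
      commutator_def, commutator_def, Subgroup.map_commutator]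
    exact Subgroup.commutator_mono le_top le_top
  have hO : Cfsg.oddCore (P ⧸ scal P) = ⊥ := by
    refine (IsSimpleGroup.eq_bot_or_eq_top_of_normal _ inferInstance).resolve_right fun h => ?_
    have hodd := CfsgLib.GW.odd_oddCore (P ⧸ scal P)
    rw [h, Subgroup.card_top] at hodd
    have h2 : 2 ∣ Nat.card (P ⧸ scal P) := by
      refine dvd_trans ?_ (Subgroup.card_subgroup_dvd_card (S : Subgroup (P ⧸ scal P)))
      rw [Nat.card_congr e.toEquiv, DihedralGroup.nat_card]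
      exact dvd_mul_right 2 n
    exact (Nat.not_even_iff_odd.2 hodd) (even_iff_two_dvd.2 h2)
  have hquot := CfsgLib.GW.gw_perfect (P ⧸ scal P) (CfsgLib.GW.dihTwo_of_sylow S hn e)
  let e0 : (P ⧸ scal P) ≃* (P ⧸ scal P) ⧸ Cfsg.oddCore (P ⧸ scal P) :=
    ((QuotientGroup.quotientMulEquivOfEq hO).trans QuotientGroup.quotientBot).symm
  rcases hquot with ⟨K, i1, i2, h1, h2, ⟨e1⟩⟩ | ⟨⟨e1⟩⟩
  · exact Or.inl ⟨K, i1, i2, h1, h2, ⟨e0.trans e1⟩⟩
  · exact Or.inr ⟨e0.trans e1⟩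

/-- the linear case of the socles with dihedral Sylow two-subgroups -/
theorem linear_socle {p : ℕ} (hp : p.Prime) [CharP F p] (hP : Quasi P) (hsub : NoSubfield P) (hd : HasDihedralTwo P)
    (hQ : ¬ FixesQuad P) (hU : ¬ FixesHerm P) (hne : P ≠ specialLinear (Fin 3) F) :
    (Nonempty ((P ⧸ (scalars (Fin 3) F).subgroupOf P) ≃* Matrix.ProjectiveSpecialLinearGroup (Fin 3) (ZMod 2)) ∧
        Fintype.card F = p ∧ p ≠ 2 ∧ (p % 7 = 1 ∨ p % 7 = 2 ∨ p % 7 = 4)) ∨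
     (Nonempty ((P ⧸ (scalars (Fin 3) F).subgroupOf P) ≃* alternatingGroup (Fin 6)) ∧
        ((Fintype.card F = p ∧ (p % 15 = 1 ∨ p % 15 = 4)) ∨
          (Fintype.card F = p ^ 2 ∧ p ≠ 3 ∧ (p % 5 = 2 ∨ p % 5 = 3)))) := by
  haveI : Fact p.Prime := ⟨hp⟩
  rcases socle_cases hP hd with ⟨K, i1, i2, hodd, h3, ⟨e⟩⟩ | ⟨⟨e⟩⟩
  · rcases ltwo_cases (p := p) hP hodd h3 e with h | ⟨h7, hp7, hbot⟩ | ⟨h9, hp3, hne'⟩
    · exact (not_selfDual hP hQ h).elim
    · exact Or.inl (seven_linear (p := p) hP hsub hQ hU hne h7 hp7 hbot e)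
    · exact Or.inr (nine_linear (p := p) hP hsub hQ hU h9 hp3 hne' e)
  · exact (seventh_linear p hP hsub hQ hU e).elim

/-- the unitary case of the socles with dihedral Sylow two-subgroups -/
theorem unitary_socle (q : ℕ) (hF : Fintype.card F = q ^ 2) (hq : 3 ≤ q) (hP : Quasi P) (hle : P ≤ Cfsg.GU 3 F q)
    (hsub : NoSubfield P) (hd : HasDihedralTwo P) (hQ : ¬ FixesQuad P) :
    q.Prime ∧
    ((Nonempty ((P ⧸ (scalars (Fin 3) F).subgroupOf P) ≃* Matrix.ProjectiveSpecialLinearGroup (Fin 3) (ZMod 2)) ∧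
        (q % 7 = 3 ∨ q % 7 = 5 ∨ q % 7 = 6)) ∨
     (Nonempty ((P ⧸ (scalars (Fin 3) F).subgroupOf P) ≃* alternatingGroup (Fin 6)) ∧
        (q % 15 = 11 ∨ q % 15 = 14 ∨ q = 5)) ∨
     (Nonempty ((P ⧸ (scalars (Fin 3) F).subgroupOf P) ≃* alternatingGroup (Fin 7)) ∧ q = 5)) := by
  obtain ⟨p, hchar⟩ := CharP.exists F
  haveI := hchar
  haveI : Fact p.Prime := ⟨CharP.char_is_prime F p⟩
  rcases socle_cases hP hd with ⟨K, i1, i2, hodd, h3, ⟨e⟩⟩ | ⟨⟨e⟩⟩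
  · rcases ltwo_cases (p := p) hP hodd h3 e with h | ⟨h7, hp7, hbot⟩ | ⟨h9, hp3, hne'⟩
    · exact (not_selfDual hP hQ h).elim
    · obtain ⟨a, b, c⟩ := seven_unitary (p := p) q hF hq hP hsub hQ h7 hp7 hbot e
      exact ⟨a, Or.inl ⟨b, c⟩⟩
    · obtain ⟨a, b, c⟩ := nine_unitary (p := p) q hF hq hP hle hsub hQ h9 hp3 hne' e
      exact ⟨a, Or.inr (Or.inl ⟨b, c⟩)⟩
  · have h5 := seventh_unitary p q hF hP hsub hQ e
    exact ⟨h5 ▸ Nat.prime_five, Or.inr (Or.inr ⟨⟨e⟩, h5⟩)⟩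

end CfsgLib.Perm.Trans.ThreeRes.Socle
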