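import Cfsg.Agent.Lib.Perm.Trans.ThreeRes.Socle.Basic
import Cfsg.Agent.Lib.Perm.Trans.ThreeRes.Forms

/-!
# The field and the forms from the traces of a socle
-/

set_option autoImplicit false
set_option linter.all false

namespace CfsgLib.Perm.Trans.ThreeRes.Socle

open scoped Matrix
open Matrix Cfsg.Geo

variable {F : Type*} [Field F] [Fintype F] {P : Subgroup (GL (Fin 3) F)}

local notation "M3" => Matrix (Fin 3) (Fin 3) F

theorem tr_one : tr (1 : P) = 3 := by simp [tr, Matrix.trace_one]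

theorem tr_pow_char_pow {p : ℕ} [Fact p.Prime] [CharP F p] (g : P) (k : ℕ) :
    tr (g ^ (p ^ k)) = tr g ^ (p ^ k) := by
  induction k with
  | zero => simp
  | succ k ih => rw [pow_succ, pow_mul, tr_pow_char, ih, ← pow_mul]

/-- not all traces are self-dual -/
theorem not_selfDual (hP : Quasi P) (hQ : ¬ FixesQuad P) (h : ∀ g : P, tr g⁻¹ = tr g) : False := by
  classical
  have h' : ∀ g ∈ P, ((g⁻¹ : GL (Fin 3) F) : M3).trace = (g : M3).trace := fun g hg => h ⟨g, hg⟩
  by_cases h2 : (2 : F) = 0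
  swap
  · exact hQ (fixesQuad_of_traces h2 hP.absIrred h')
  obtain ⟨B, hB, hrel, c, hc, hcc⟩ := exists_form_of_traces hP.absIrred h'
  haveI : CharP F 2 := CharTwo.of_one_ne_zero_of_two_eq_zero one_ne_zero h2
  have hc1 : c = 1 := by
    rcases mul_self_eq_one_iff.1 hcc with e | e
    · exact e
    · rw [e]; linear_combination (-1 : F) * h2
  rw [hc1, one_smul] at hc
  have hs : ∀ i j, B i j = B j i := fun i j => congrFun (congrFun hc j) i
  have hsq : ∀ i, IsSquare (B i i) := fun i => FiniteField.isSquare_of_char_two (ringChar.eq F 2) _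
  choose s hs' using hsq
  have hL : ∀ v : Fin 3 → F, v ⬝ᵥ (B *ᵥ v) = (s ⬝ᵥ v) * (s ⬝ᵥ v) := by
    intro v
    simp only [dotProduct, Matrix.mulVec, Fin.sum_univ_three, hs 1 0, hs 2 0, hs 2 1, hs' 0, hs' 1, hs' 2]
    linear_combination (v 0 * v 1 * (B 0 1 - s 0 * s 1) + v 0 * v 2 * (B 0 2 - s 0 * s 2) +
      v 1 * v 2 * (B 1 2 - s 1 * s 2)) * h2
  have hfix : ∀ g ∈ P, ∀ v, s ⬝ᵥ ((g : M3) *ᵥ v) = s ⬝ᵥ v := by
    intro g hg v
    have h1 : ((g : M3) *ᵥ v) ⬝ᵥ (B *ᵥ ((g : M3) *ᵥ v)) = v ⬝ᵥ (B *ᵥ v) := by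
      conv_rhs => rw [← hrel g hg]
      simp only [mul_assoc, ← mulVec_mulVec]
      conv_rhs => rw [Matrix.dotProduct_mulVec, Matrix.vecMul_transpose]
    rw [hL, hL] at h1
    have h3 : (s ⬝ᵥ ((g : M3) *ᵥ v) - s ⬝ᵥ v) * (s ⬝ᵥ ((g : M3) *ᵥ v) - s ⬝ᵥ v) = 0 := by
      linear_combination h1 + ((s ⬝ᵥ v) * (s ⬝ᵥ v) - (s ⬝ᵥ ((g : M3) *ᵥ v)) * (s ⬝ᵥ v)) * h2
    exact sub_eq_zero.1 (mul_self_eq_zero.1 h3)
  by_cases hs0 : s = 0
  · refine hB ?_
    have hd : ∀ i, B i i = 0 := fun i => by rw [hs' i, hs0]; simp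
    rw [Matrix.det_fin_three, hd 0, hd 1, hd 2, hs 1 0, hs 2 0, hs 2 1]
    linear_combination (B 0 1 * B 1 2 * B 0 2) * h2
  · let W : Submodule F (Fin 3 → F) :=
      { carrier := {v | s ⬝ᵥ v = 0}
        add_mem' := fun {a b} ha hb => by
          simp only [Set.mem_setOf_eq, dotProduct_add] at ha hb ⊢; rw [ha, hb, add_zero]
        zero_mem' := dotProduct_zero s
        smul_mem' := fun a v hv => by
          simp only [Set.mem_setOf_eq, dotProduct_smul] at hv ⊢; rw [hv, smul_zero] }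
    rcases hP.absIrred.1 W (by
      rintro _ ⟨g, hg, rfl⟩ _ ⟨v, hv, rfl⟩
      show s ⬝ᵥ Matrix.toLin' (g : M3) v = 0
      rw [Matrix.toLin'_apply, hfix g hg]
      exact hv) with hW | hW
    · by_cases h0 : s 0 = 0
      · have hm : (Pi.single 0 1 : Fin 3 → F) ∈ W := by
          show s ⬝ᵥ _ = 0; rw [dotProduct_single_one, h0]
        rw [hW, Submodule.mem_bot] at hm
        simpa using congrFun hm 0
      · have hm : (![s 1, -s 0, 0] : Fin 3 → F) ∈ W := by
          show s ⬝ᵥ _ = 0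
          simp [dotProduct, Fin.sum_univ_three]; ring
        rw [hW, Submodule.mem_bot] at hm
        have := congrFun hm 1
        simp at this
        exact h0 this
    · refine hs0 (funext fun i => ?_)
      have hm : (Pi.single i 1 : Fin 3 → F) ∈ W := hW ▸ Submodule.mem_top
      have hm' : s ⬝ᵥ (Pi.single i 1 : Fin 3 → F) = 0 := hm
      rwa [dotProduct_single_one] at hm'

variable {p : ℕ} [hp : Fact p.Prime] [CharP F p]

/-- the traces generate the field -/
theorem pow_eq_self_of_traces (hP : Quasi P) (hsub : NoSubfield P) {k : ℕ}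
    (h : ∀ g : P, tr g ^ (p ^ k) = tr g) (x : F) : x ^ (p ^ k) = x := by
  let φ : F →+* F := iterateFrobenius F p k
  let F₀ : Subfield F := φ.eqLocusField (RingHom.id F)
  have htop : F₀ = ⊤ := by
    by_contra hne
    exact hsub F₀ hne (realisable_of_traces hP.absIrred F₀ fun g hg => by
      show φ (g : M3).trace = (g : M3).trace
      exact h ⟨g, hg⟩)
  have hx : x ∈ F₀ := htop ▸ Subfield.mem_top x
  exact hx

theorem card_eq_prime (hP : Quasi P) (hsub : NoSubfield P) (h : ∀ g : P, tr g ^ p = tr g) :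
    Fintype.card F = p := by
  obtain ⟨n, -, hn⟩ := FiniteField.card F p
  have hx := pow_eq_self_of_traces (p := p) hP hsub (k := 1) (by simpa using h)
  have hle := card_le_of_pow_eq_self hp.out.one_lt (by simpa using hx)
  rw [hn] at hle ⊢
  have h1 := (Nat.pow_le_pow_iff_right hp.out.one_lt).1 (hle.trans (pow_one p).ge)
  have := n.pos
  rw [show (n : ℕ) = 1 by omega, pow_one]
where
  card_le_of_pow_eq_self {m : ℕ} (hm : 1 < m) (hx : ∀ x : F, x ^ m = x) : Fintype.card F ≤ m := by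
    classical
    by_contra hlt
    have h0 : (Polynomial.X ^ m - Polynomial.X : Polynomial F) = 0 :=
      Polynomial.eq_zero_of_natDegree_lt_card_of_eval_eq_zero' _ Finset.univ (fun x _ => by simp [hx x])
        (by rw [FiniteField.X_pow_card_sub_X_natDegree_eq F hm, Finset.card_univ]; omega)
    exact FiniteField.X_pow_card_sub_X_ne_zero F hm h0

theorem card_eq_or_sq (hP : Quasi P) (hsub : NoSubfield P) (h : ∀ g : P, tr g ^ (p ^ 2) = tr g) :
    Fintype.card F = p ∨ Fintype.card F = p ^ 2 := by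
  obtain ⟨n, -, hn⟩ := FiniteField.card F p
  have hle := card_eq_prime.card_le_of_pow_eq_self (Nat.one_lt_pow two_ne_zero hp.out.one_lt)
    (pow_eq_self_of_traces (p := p) hP hsub h)
  rw [hn] at hle ⊢
  have h1 := (Nat.pow_le_pow_iff_right hp.out.one_lt).1 hle
  have := n.pos
  rcases (show (n : ℕ) = 1 ∨ (n : ℕ) = 2 by omega) with e | e <;> simp [e]

/-- Frobenius acting as duality on the traces: the field is quadratic. -/
theorem card_eq_sq (hP : Quasi P) (hsub : NoSubfield P) (hQ : ¬ FixesQuad P)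
    (h : ∀ g : P, tr g ^ p = tr g⁻¹) : Fintype.card F = p ^ 2 := by
  refine (card_eq_or_sq (p := p) hP hsub fun g => ?_).resolve_left fun hc => not_selfDual hP hQ fun g => ?_
  · rw [pow_two, pow_mul, h, h, inv_inv]
  · rw [← h, ← hc, FiniteField.pow_card]

/-- Frobenius acting as duality on the traces: a unitary form is fixed. -/
theorem fixesHerm_of_frobenius (hP : Quasi P) (hsub : NoSubfield P) (hQ : ¬ FixesQuad P)
    (h : ∀ g : P, tr g ^ p = tr g⁻¹) : FixesHerm P := by
  have hF := card_eq_sq (p := p) hP hsub hQ h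
  let σ : F ≃+* F := RingEquiv.ofBijective (frobenius F p) (bijective_frobenius F p)
  have hσ : ∀ x : F, σ x = x ^ p := fun _ => rfl
  refine fixesHerm_of_traces σ (fun he => not_selfDual hP hQ fun g => ?_)
    (fun a => by rw [hσ, hσ, ← pow_mul, ← pow_two, ← hF, FiniteField.pow_card]) hP.absIrred
    fun g hg => (h ⟨g, hg⟩).symm
  rw [← h, ← hσ, he, RingEquiv.refl_apply]

/-- In the unitary case Frobenius acting trivially or as duality determines `q`. -/
theorem q_eq_char {q : ℕ} (hF : Fintype.card F = q ^ 2) (hc : Fintype.card F = p ^ 2) : q = p :=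
  Nat.pow_left_injective two_ne_zero (hF.symm.trans hc)

theorem q_absurd {q : ℕ} (hq : 2 ≤ q) (hF : Fintype.card F = q ^ 2) (hc : Fintype.card F = p) : False := by
  have h := hp.out
  rw [← hc, hF] at h
  exact Nat.Prime.not_prime_pow le_rfl h

end CfsgLib.Perm.Trans.ThreeRes.Socle
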