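import Mathlib

/-!
# Frobenius on traces, and characters of a normalised abelian subgroup
-/

set_option autoImplicit false
set_option linter.all false

namespace CfsgLib.Perm.Trans.ThreeRes.Socle

open Matrix Polynomial

/-- The trace of a `p`-th power in characteristic `p`. -/
theorem trace_pow_char {n : Type*} [DecidableEq n] [Fintype n] [Nonempty n] {F : Type*} [Field F]
    {p : ℕ} [Fact p.Prime] [CharP F p] (A : Matrix n n F) : trace (A ^ p) = trace A ^ p := by
  have hp := (Fact.out : p.Prime)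
  have h1 : expand F p (A ^ p).charpoly = A.charpoly ^ p := by
    unfold Matrix.charpoly
    rw [AlgHom.map_det, ← coe_detMonoidHom, ← (detMonoidHom : Matrix n n F[X] →* F[X]).map_pow]
    apply congr_arg det
    refine matPolyEquiv.injective ?_
    rw [map_pow, matPolyEquiv_charmatrix, sub_pow_char_of_commute, ← C_pow]
    · exact (id (matPolyEquiv_eq_X_pow_sub_C p A) :)
    · exact (C A).commute_X
  have h2 : (A ^ p).charpoly = A.charpoly.map (frobenius F p) := by
    apply expand_injective hp.pos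
    rw [h1, ← map_frobenius_expand, map_expand]
  rw [Matrix.trace_eq_neg_charpoly_coeff, Matrix.trace_eq_neg_charpoly_coeff, h2, coeff_map,
    ← map_neg, frobenius_def]

/-- An abelian subgroup of exponent prime to the characteristic, normalised by elements inducing
distinct fixed-point-free differences, bounds their number by the degree. -/
theorem card_le_of_fpf {G : Type*} [Group G] {K : Type*} [Field K] [IsAlgClosed K] {n : ℕ}
    (ρ : G →* Matrix (Fin n) (Fin n) K) (U : Subgroup G) (hc : ∀ a ∈ U, ∀ b ∈ U, a * b = b * a)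
    {ℓ : ℕ} (hℓ : (ℓ : K) ≠ 0) (hexp : ∀ a ∈ U, a ^ ℓ = 1) (hne : ∃ a ∈ U, ρ a ≠ 1) (T : Finset G)
    (hnorm : ∀ t ∈ T, ∀ a ∈ U, t * a * t⁻¹ ∈ U)
    (hsurj : ∀ s ∈ T, ∀ t ∈ T, s ≠ t → ∀ w ∈ U, ∃ a ∈ U, s * a * s⁻¹ = w * (t * a * t⁻¹)) :
    T.card ≤ n := by
  classical
  obtain ⟨a0, ha0, hρ0⟩ := hne
  let L : G → ((Fin n → K) →ₗ[K] (Fin n → K)) := fun g => Matrix.toLin' (ρ g)
  have hL : ∀ g h x, L g (L h x) = L (g * h) x := fun g h x => by
    simp only [L, map_mul, Matrix.toLin'_mul, LinearMap.comp_apply]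
  have hL1 : ∀ x, L 1 x = x := fun x => by simp [L]
  let W0 : Submodule K (Fin n → K) := LinearMap.range (L a0 - LinearMap.id)
  have hW0 : W0 ≠ ⊥ := by
    intro h
    rw [LinearMap.range_eq_bot, sub_eq_zero] at h
    exact hρ0 (Matrix.toLin'.injective (h.trans Matrix.toLin'_one.symm))
  have hinv0 : ∀ a ∈ U, ∀ x ∈ W0, L a x ∈ W0 := by
    rintro a ha _ ⟨w, rfl⟩
    refine ⟨L a w, ?_⟩
    simp only [LinearMap.sub_apply, LinearMap.id_coe, id_eq, map_sub, hL, hc a ha a0 ha0]
  -- a minimal invariant subspace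
  obtain ⟨W, ⟨hW1, hW2, hW3⟩, hWmin⟩ := exists_minimal_of_wellFoundedLT
    (fun W : Submodule K (Fin n → K) => W ≠ ⊥ ∧ W ≤ W0 ∧ ∀ a ∈ U, ∀ x ∈ W, L a x ∈ W)
    ⟨W0, hW0, le_rfl, hinv0⟩
  have hscal : ∀ a ∈ U, ∃ c : K, ∀ x ∈ W, L a x = c • x := by
    intro a ha
    haveI : Nontrivial W := (Submodule.nontrivial_iff_ne_bot).2 hW1
    obtain ⟨c, hc'⟩ := Module.End.exists_eigenvalue ((L a).restrict (hW3 a ha))
    obtain ⟨⟨x, hxW⟩, hx⟩ := hc'.exists_hasEigenvector
    refine ⟨c, ?_⟩
    let E : Submodule K (Fin n → K) := W ⊓ LinearMap.ker (L a - c • LinearMap.id)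
    have hE : E ≠ ⊥ := by
      refine (Submodule.ne_bot_iff _).2 ⟨x, ⟨hxW, ?_⟩, fun e => hx.2 (Subtype.ext e)⟩
      rw [SetLike.mem_coe, LinearMap.mem_ker, LinearMap.sub_apply, LinearMap.smul_apply,
        LinearMap.id_apply, sub_eq_zero]
      exact congrArg Subtype.val hx.apply_eq_smul
    have hEW : W ≤ E := hWmin ⟨hE, inf_le_left.trans hW2, fun b hb y hy => ⟨hW3 b hb y hy.1, by
      have hy2 := hy.2
      rw [SetLike.mem_coe, LinearMap.mem_ker, LinearMap.sub_apply, LinearMap.smul_apply,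
        LinearMap.id_apply, sub_eq_zero] at hy2 ⊢
      rw [hL, hc a ha b hb, ← hL, hy2, map_smul]⟩⟩ inf_le_left
    intro y hy
    have := (hEW hy).2
    rwa [SetLike.mem_coe, LinearMap.mem_ker, LinearMap.sub_apply, LinearMap.smul_apply,
      LinearMap.id_apply, sub_eq_zero] at this
  choose! χ hχ using hscal
  obtain ⟨v, hv, hv0⟩ := (Submodule.ne_bot_iff _).1 hW1
  have hχ0 : χ a0 ≠ 1 := by
    intro e
    obtain ⟨w, hw⟩ := hW2 hv
    have hw' : L a0 w = w + v := by
      rw [← hw, LinearMap.sub_apply, LinearMap.id_apply, add_sub_cancel]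
    have hfix : L a0 v = v := by rw [hχ a0 ha0 v hv, e, one_smul]
    have key : ∀ i : ℕ, L (a0 ^ i) w = w + i • v := by
      intro i
      induction i with
      | zero => simp [hL1]
      | succ i ih => rw [pow_succ', ← hL, ih, map_add, map_nsmul, hfix, hw', succ_nsmul']; abel
    have h := key ℓ
    rw [hexp a0 ha0, hL1, left_eq_add, ← Nat.cast_smul_eq_nsmul K, smul_eq_zero] at h
    exact h.elim hℓ hv0
  let w : G → (Fin n → K) := fun t => L t⁻¹ v
  have hw : ∀ t ∈ T, ∀ a ∈ U, L a (w t) = χ (t * a * t⁻¹) • w t := by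
    intro t ht a ha
    simp only [w]
    rw [← map_smul, ← hχ _ (hnorm t ht a ha) v hv, hL, hL]
    group
  have hwne : ∀ t, w t ≠ 0 := fun t e => hv0 (by
    have := congrArg (L t) e
    rwa [map_zero, hL, mul_inv_cancel, hL1] at this)
  have hdist : ∀ s ∈ T, ∀ t ∈ T, s ≠ t → ∃ a ∈ U, χ (s * a * s⁻¹) ≠ χ (t * a * t⁻¹) := by
    intro s hs t ht hst
    by_contra hall
    push Not at hall
    apply hχ0
    obtain ⟨a, ha, e⟩ := hsurj s hs t ht hst a0 ha0
    have h1 := hχ _ (hnorm s hs a ha) v hv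
    rw [hall a ha, e, ← hL, hχ _ (hnorm t ht a ha) v hv, map_smul, hχ a0 ha0 v hv, smul_smul] at h1
    have h2 : χ (t * a * t⁻¹) ≠ 0 := by
      intro e0
      have := hχ _ (hnorm t ht a ha) v hv
      rw [e0, zero_smul] at this
      exact hv0 (by
        have := congrArg (L (t * a * t⁻¹)⁻¹) this
        rwa [map_zero, hL, inv_mul_cancel, hL1] at this)
    have h3 := smul_left_injective K hv0 h1
    exact (mul_right_eq_self₀.1 h3).resolve_right h2
  have indep : ∀ s : Finset G, s ⊆ T → ∀ c : G → K, ∑ t ∈ s, c t • w t = 0 → ∀ t ∈ s, c t = 0 := by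
    intro s
    induction s using Finset.induction with
    | empty => simp
    | @insert b s hb ih =>
      intro hs c hsum
      have hsT : s ⊆ T := fun t ht => hs (Finset.mem_insert_of_mem ht)
      have hzero : ∀ t ∈ s, c t = 0 := by
        intro t ht
        obtain ⟨a, ha, hne'⟩ := hdist t (hsT ht) b (hs (Finset.mem_insert_self _ _))
          (fun e => hb (e ▸ ht))
        have h1 := congrArg (L a) hsum
        rw [map_sum, map_zero] at h1
        rw [Finset.sum_congr rfl fun i hi => by rw [map_smul, hw i (hs hi) a ha, smul_comm]] at h1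
        have h2 : ∑ i ∈ insert b s, (c i * (χ (i * a * i⁻¹) - χ (b * a * b⁻¹))) • w i = 0 := by
          simp only [mul_sub, sub_smul, Finset.sum_sub_distrib, mul_comm (c _), mul_smul, h1,
            ← Finset.smul_sum, hsum, smul_zero, sub_zero]
        rw [Finset.sum_insert hb, sub_self, mul_zero, zero_smul, zero_add] at h2
        exact (mul_eq_zero.1 (ih hsT _ h2 t ht)).resolve_right (sub_ne_zero.2 hne')
      intro t ht
      rcases Finset.mem_insert.1 ht with rfl | ht
      · rw [Finset.sum_insert hb, Finset.sum_eq_zero (fun i hi => by rw [hzero i hi, zero_smul]),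
          add_zero, smul_eq_zero] at hsum
        exact hsum.resolve_right (hwne _)
      · exact hzero t ht
  have hli : LinearIndependent K (fun t : T => w (t : G)) := by
    rw [Fintype.linearIndependent_iff]
    intro c hc' t
    let c' : G → K := fun g => if hg : g ∈ T then c ⟨g, hg⟩ else 0
    have := indep T le_rfl c' (by
      rw [← Finset.sum_coe_sort, ← hc']
      exact Finset.sum_congr rfl fun i _ => by simp [c', i.2]) t t.2
    simpa [c', t.2] using this
  simpa using hli.fintype_card_le_finrank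

end CfsgLib.Perm.Trans.ThreeRes.Socle
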