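import Cfsg.Agent.Lib.Perm.Trans.ThreeRes.Defs
import Cfsg.Agent.Lib.Perm.Trans.ThreeRes.Socle.Weights
import Cfsg.Agent.Lib.Fusion.Abelian

/-!
# Lifts and traces
-/

set_option autoImplicit false
set_option linter.all false

namespace CfsgLib.Perm.Trans.ThreeRes.Socle

open scoped Matrix
open Matrix Cfsg.Geo

variable {F : Type*} [Field F]

/-- the scalars in `P` -/
abbrev scal (P : Subgroup (GL (Fin 3) F)) : Subgroup P := (scalars (Fin 3) F).subgroupOf P

/-- the trace of an element -/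
def tr {P : Subgroup (GL (Fin 3) F)} (g : P) : F :=
  ((g : GL (Fin 3) F) : Matrix (Fin 3) (Fin 3) F).trace

variable {P : Subgroup (GL (Fin 3) F)}

theorem mat_pow (g : P) (n : ℕ) : (((g ^ n : P) : GL (Fin 3) F) : Matrix (Fin 3) (Fin 3) F) =
    ((g : GL (Fin 3) F) : Matrix (Fin 3) (Fin 3) F) ^ n := by simp

theorem tr_conj (y g : P) : tr (y * g * y⁻¹) = tr g := by
  unfold tr
  simp only [Subgroup.coe_mul, Subgroup.coe_inv, Units.val_mul]
  rw [Matrix.trace_mul_comm, ← Matrix.mul_assoc, ← Units.val_mul, inv_mul_cancel, Units.val_one,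
    Matrix.one_mul]

theorem scal_exists (hP : Quasi P) {z : P} (hz : z ∈ scal P) :
    ∃ c : F, c ^ 3 = 1 ∧ ((z : GL (Fin 3) F) : Matrix (Fin 3) (Fin 3) F) = c • 1 := by
  obtain ⟨c, hc'⟩ := (mem_scalars_iff _).1 (Subgroup.mem_subgroupOf.1 hz)
  have hd := CfsgLib.Perm.Trans.ThreeDim.det_one_of_mem hP.le_sl z.2
  refine ⟨c, ?_, hc'⟩
  rw [hc', Matrix.det_smul, Fintype.card_fin, Matrix.det_one, mul_one] at hd
  exact hd

theorem tr_mul_scal {z : P} {c : F} (hz : ((z : GL (Fin 3) F) : Matrix (Fin 3) (Fin 3) F) = c • 1)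
    (g : P) : tr (g * z) = c * tr g := by
  unfold tr
  rw [Subgroup.coe_mul, Units.val_mul, hz, Matrix.mul_smul, Matrix.mul_one, Matrix.trace_smul, smul_eq_mul]

theorem scal_comm (hP : Quasi P) {z : P} (hz : z ∈ scal P) (g : P) : g * z = z * g := by
  obtain ⟨c, -, hc⟩ := scal_exists hP hz
  apply Subtype.ext
  apply Units.ext
  simp [hc]

theorem scal_cube (hP : Quasi P) {z : P} (hz : z ∈ scal P) : z ^ 3 = 1 := by
  obtain ⟨c, hc3, hc⟩ := scal_exists hP hz
  apply Subtype.ext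
  apply Units.ext
  rw [mat_pow, hc, smul_pow, one_pow, hc3, one_smul]
  rfl

theorem scal_three [Fact (Nat.Prime 3)] [CharP F 3] (hP : Quasi P) : scal P = ⊥ := by
  refine eq_bot_iff.2 fun z hz => Subgroup.mem_bot.2 ?_
  obtain ⟨c, hc3, hc⟩ := scal_exists hP hz
  have h1 : (c - 1) ^ 3 = 0 := by rw [sub_pow_char, one_pow, hc3, sub_self]
  apply Subtype.ext
  apply Units.ext
  rw [hc, sub_eq_zero.1 (eq_zero_of_pow_eq_zero h1), one_smul]
  rfl

instance scal_normal : (scal P).Normal := by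
  refine ⟨fun z hz g => ?_⟩
  obtain ⟨c, hc⟩ := (mem_scalars_iff _).1 (Subgroup.mem_subgroupOf.1 hz)
  refine Subgroup.mem_subgroupOf.2 ((mem_scalars_iff _).2 ⟨c, ?_⟩)
  simp only [Subgroup.coe_mul, Subgroup.coe_inv, Units.val_mul, hc, Matrix.mul_smul, Matrix.mul_one,
    Matrix.smul_mul]
  rw [← Units.val_mul, mul_inv_cancel, Units.val_one]

/-- An element of order prime to three modulo scalars has a lift of the same order. -/
theorem exists_lift (hP : Quasi P) {g : P} {n : ℕ} (hn : g ^ n ∈ scal P) (h3 : ¬ 3 ∣ n) :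
    ∃ z ∈ scal P, (g * z) ^ n = 1 := by
  obtain ⟨k, hk⟩ : ∃ k : ℕ, n * k % 3 = 2 :=
    ⟨if n % 3 = 1 then 2 else 1, by split_ifs <;> (rw [Nat.mul_mod]; have := Nat.mod_lt n (by norm_num : 0 < 3); interval_cases h : n % 3 <;> omega)⟩
  refine ⟨(g ^ n) ^ k, pow_mem hn k, ?_⟩
  have hc : Commute g ((g ^ n) ^ k) := ((Commute.refl g).pow_right n).pow_right k
  have hk' : 1 + k * n = 3 * ((k * n + 1) / 3) := by
    have : (k * n + 1) % 3 = 0 := by rw [mul_comm k n, Nat.add_mod, hk]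
    omega
  rw [hc.mul_pow, ← pow_mul (g ^ n)]
  nth_rewrite 1 [← pow_one (g ^ n)]
  rw [← pow_add, hk', pow_mul, scal_cube hP hn, one_pow]

/-- A conjugation modulo scalars is exact on elements of order prime to three. -/
theorem tr_eq_of_conj (hP : Quasi P) {g y : P} {n k : ℕ} (h3 : ¬ 3 ∣ n) (hg : g ^ n = 1)
    (hy : (g ^ k)⁻¹ * (y * g * y⁻¹) ∈ scal P) : tr (g ^ k) = tr g := by
  set z := (g ^ k)⁻¹ * (y * g * y⁻¹) with hz
  have hyg : y * g * y⁻¹ = g ^ k * z := by rw [hz, mul_inv_cancel_left]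
  have hzn : z ^ n = 1 := by
    have h1 : (g ^ k * z) ^ n = 1 := by rw [← hyg, conj_pow, hg, mul_one, mul_inv_cancel]
    have hc : Commute (g ^ k) z := scal_comm hP hy _
    rwa [hc.mul_pow, ← pow_mul, mul_comm k n, pow_mul, hg, one_pow, one_mul] at h1
  have hz1 : z = 1 := by
    refine orderOf_eq_one_iff.1 (Nat.eq_one_of_dvd_coprimes ((Nat.prime_three.coprime_iff_not_dvd).2 h3)
      (orderOf_dvd_of_pow_eq_one (scal_cube hP hy)) (orderOf_dvd_of_pow_eq_one hzn))
  rw [← tr_conj y g, hyg, hz1, mul_one]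

/-- Real modulo scalars and of order prime to three: the trace is that of the inverse. -/
theorem tr_inv_of_real (hP : Quasi P) {g y : P} {n : ℕ} (h3 : ¬ 3 ∣ n) (hg : g ^ n = 1)
    (hy : g * (y * g * y⁻¹) ∈ scal P) : tr g⁻¹ = tr g := by
  rcases Nat.eq_zero_or_pos n with rfl | hpos
  · exact absurd (dvd_zero 3) h3
  have hinv : g⁻¹ = g ^ (n - 1) := by
    refine inv_eq_of_mul_eq_one_right ?_
    rw [← pow_succ', Nat.sub_add_cancel hpos, hg]
  rw [hinv]
  exact tr_eq_of_conj (y := y) hP h3 hg (by rw [← hinv, inv_inv]; exact hy)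

/-- Real elements of order divisible by three modulo scalars have lifts of the same order. -/
theorem pow_eq_one_of_real (hP : Quasi P) {g y : P} {n : ℕ} (h3 : 3 ∣ n) (hn : g ^ n ∈ scal P)
    (hy : g * (y * g * y⁻¹) ∈ scal P) : g ^ n = 1 := by
  set z := g * (y * g * y⁻¹) with hz
  have hyg : y * g * y⁻¹ = g⁻¹ * z := by rw [hz, inv_mul_cancel_left]
  have h1 : (y * g * y⁻¹) ^ n = (g ^ n)⁻¹ := by
    obtain ⟨m, hm⟩ := h3
    have hc : Commute g⁻¹ z := scal_comm hP hy _
    rw [hyg, hc.mul_pow, inv_pow, hm, pow_mul z, scal_cube hP hy, one_pow, mul_one]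
  rw [conj_pow, scal_comm hP hn y, mul_inv_cancel_right, eq_inv_iff_mul_eq_one, ← pow_two] at h1
  have h2 := scal_cube hP hn
  rwa [pow_succ, h1, one_mul] at h2

/-- The scalars vanish when the preimage of a Sylow three-subgroup is abelian. -/
theorem scal_bot_of_abelian [Fintype F] (hP : Quasi P) (T : Sylow 3 P)
    (hT : ∀ a ∈ (T : Subgroup P), ∀ b ∈ (T : Subgroup P), a * b = b * a) : scal P = ⊥ := by
  haveI : Fact (Nat.Prime 3) := ⟨Nat.prime_three⟩
  haveI : IsMulCommutative (T : Subgroup P) := ⟨⟨fun a b => Subtype.ext (hT a a.2 b b.2)⟩⟩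
  refine eq_bot_iff.2 fun z hz => Subgroup.mem_bot.2 ?_
  refine CfsgLib.Fusion.central_inf_commutator_eq_one (T : Subgroup P) T.card_coprime_index
    (Subgroup.mem_center_iff.2 fun g => scal_comm hP hz g) ?_ ?_
  · rw [commutator_eq_top_of_perfect hP.perfect]; exact Subgroup.mem_top _
  · have hp : IsPGroup 3 (scal P) := fun a => ⟨1, Subtype.ext (scal_cube hP a.2)⟩
    obtain ⟨T', hT'⟩ := IsPGroup.exists_le_sylow hp
    obtain ⟨g, rfl⟩ := MulAction.exists_smul_eq P T T'
    have hm := hT' hz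
    rw [Sylow.coe_subgroup_smul] at hm
    obtain ⟨t, ht, e⟩ := hm
    have e' : g * t * g⁻¹ = z := e
    have e2 : t = z := by
      calc t = g⁻¹ * (g * t * g⁻¹) * g := by group
        _ = z := by rw [e', mul_assoc, ← scal_comm hP hz g, inv_mul_cancel_left]
    exact e2 ▸ ht
where
  commutator_eq_top_of_perfect (h : ⁅P, P⁆ = P) : commutator P = ⊤ := by
    refine (Subgroup.map_injective P.subtype_injective) ?_
    rw [Subgroup.map_subtype_commutator, h, ← MonoidHom.range_eq_map, Subgroup.range_subtype]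

/-- Frobenius on traces. -/
theorem tr_pow_char {p : ℕ} [Fact p.Prime] [CharP F p] (g : P) : tr (g ^ p) = tr g ^ p := by
  unfold tr
  rw [mat_pow, trace_pow_char]

/-- Elements killed by the characteristic have trace three. -/
theorem tr_of_pow_char {p : ℕ} [Fact p.Prime] [CharP F p] {g : P} (hg : g ^ p = 1) : tr g = 3 := by
  have h : tr g ^ p = (3 : F) ^ p := by
    rw [← tr_pow_char, hg]
    have : tr (1 : P) = 3 := by simp [tr, Matrix.trace_one]
    rw [this]
    exact (map_natCast (frobenius F p) 3).symm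
  exact frobenius_inj F p (by simpa [frobenius_def] using h)

/-- Elements killed by the characteristic have the trace of their inverse. -/
theorem tr_inv_of_pow_char {p : ℕ} [Fact p.Prime] [CharP F p] {g : P} (hg : g ^ p = 1) :
    tr g⁻¹ = tr g := by
  rw [tr_of_pow_char (p := p) hg, tr_of_pow_char (p := p) (g := g⁻¹) (by rw [inv_pow, hg, inv_one])]

end CfsgLib.Perm.Trans.ThreeRes.Socle
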