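import Mathlib

/-!
# Elements of `PSL(2, K)` conjugate to their inverses
-/

set_option autoImplicit false
set_option linter.unusedSectionVars false

namespace CfsgLib.Perm.Trans.ThreeRes.Socle

open Matrix

set_option linter.all false

universe v

variable {K : Type v} [Field K] [Fintype K]

/-- A trace zero element of determinant one inverting a given element of determinant one. -/
theorem exists_inverting_entries (h2 : (2 : K) ≠ 0) (a b c d : K)
    (hD : (a - d) * (a - d) + 4 * b * c ≠ 0 ∨ (IsSquare (-1 : K))) :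
    ∃ x y z : K, (a - d) * x + c * y + b * z = 0 ∧ -(x * x) - y * z = 1 := by
  classical
  by_cases hc : c = 0
  · by_cases had : a - d = 0
    · obtain ⟨i, hi⟩ := hD.resolve_left (by simp [hc, had])
      exact ⟨i, 0, 0, by simp [had], by rw [← hi]; ring⟩
    · refine ⟨-b / (a - d), -(1 + (-b / (a - d)) * (-b / (a - d))), 1, ?_, by ring⟩
      rw [hc]; field_simp; ring
  · obtain ⟨m, hm⟩ : ∃ m, m = ((a - d) * (a - d) + 4 * b * c) / (4 * c * c) := ⟨_, rfl⟩
    have h4 : (4 : K) ≠ 0 := by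
      rw [show (4 : K) = 2 * 2 by norm_num]; exact mul_ne_zero h2 h2
    obtain ⟨X, Z, hXZ⟩ : ∃ X Z : K, X * X - m * (Z * Z) = -1 := by
      by_cases hm0 : m = 0
      · have hD0 : (a - d) * (a - d) + 4 * b * c = 0 := by
          rw [hm0, eq_comm, div_eq_zero_iff] at hm
          exact hm.resolve_right (mul_ne_zero (mul_ne_zero h4 hc) hc)
        obtain ⟨i, hi⟩ := hD.resolve_left (not_not.2 hD0)
        exact ⟨i, 0, by rw [← hi]; ring⟩
      · have hodd : Fintype.card K % 2 = 1 := by
          refine FiniteField.odd_card_of_char_ne_two fun h => h2 ?_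
          have h0 := ringChar.Nat.cast_ringChar (R := K)
          rw [h] at h0
          simpa using h0
        obtain ⟨X, Z, h⟩ := FiniteField.exists_root_sum_quadratic (R := K) (f := Polynomial.X ^ 2)
          (g := Polynomial.C (-m) * Polynomial.X ^ 2 + Polynomial.C 0 * Polynomial.X + Polynomial.C 1)
          (Polynomial.degree_X_pow 2) (Polynomial.degree_quadratic (neg_ne_zero.2 hm0)) hodd
        refine ⟨X, Z, ?_⟩
        simp at h
        linear_combination h
    refine ⟨X + (a - d) * Z / (2 * c), -((a - d) * (X + (a - d) * Z / (2 * c)) + b * Z) / c, Z, ?_, ?_⟩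
    · field_simp; ring
    · rw [hm] at hXZ
      field_simp at hXZ ⊢
      linear_combination -hXZ

/-- An element of `SL(2, K)` is inverted by some element, unless its trace is `±2`. -/
theorem exists_inverting (h2 : (2 : K) ≠ 0) (A : Matrix.SpecialLinearGroup (Fin 2) K)
    (hD : (A 0 0 + A 1 1) ^ 2 ≠ 4 ∨ IsSquare (-1 : K)) :
    ∃ B : Matrix.SpecialLinearGroup (Fin 2) K, B * A * B⁻¹ = A⁻¹ := by
  have hdet : A 0 0 * A 1 1 - A 0 1 * A 1 0 = 1 := by
    have := A.det_coe; rwa [Matrix.det_fin_two] at this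
  obtain ⟨x, y, z, h1, h3⟩ := exists_inverting_entries h2 (A 0 0) (A 0 1) (A 1 0) (A 1 1)
    (hD.imp_left fun h e => h (by linear_combination e + 4 * hdet))
  obtain ⟨B, hB⟩ : ∃ B : Matrix.SpecialLinearGroup (Fin 2) K, (B : Matrix (Fin 2) (Fin 2) K) = !![x, y; z, -x] :=
    ⟨⟨!![x, y; z, -x], by rw [Matrix.det_fin_two_of]; linear_combination h3⟩, rfl⟩
  refine ⟨B, ?_⟩
  rw [mul_inv_eq_iff_eq_mul]
  apply Subtype.ext
  rw [Matrix.SpecialLinearGroup.coe_mul, Matrix.SpecialLinearGroup.coe_mul, Matrix.SpecialLinearGroup.coe_inv, hB,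
    Matrix.adjugate_fin_two]
  ext i j
  fin_cases i <;> fin_cases j <;> simp [Matrix.mul_apply, Fin.sum_univ_two]
  · linear_combination h1
  · ring
  · ring
  · linear_combination h1

theorem neg_one_center : (-1 : Matrix.SpecialLinearGroup (Fin 2) K) ∈
    Subgroup.center (Matrix.SpecialLinearGroup (Fin 2) K) :=
  Subgroup.mem_center_iff.2 fun g => by simp

/-- Trace `±2` gives an element whose power by the characteristic is central. -/
theorem pow_char_central {ℓ : ℕ} [Fact ℓ.Prime] [CharP K ℓ] (A : Matrix.SpecialLinearGroup (Fin 2) K)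
    (hD : (A 0 0 + A 1 1) ^ 2 = 4) : A ^ ℓ ∈ Subgroup.center (Matrix.SpecialLinearGroup (Fin 2) K) := by
  have hdet : A 0 0 * A 1 1 - A 0 1 * A 1 0 = 1 := by
    have := A.det_coe; rwa [Matrix.det_fin_two] at this
  obtain ⟨e, he, ht⟩ : ∃ e : K, (e = 1 ∨ e = -1) ∧ A 0 0 + A 1 1 = 2 * e := by
    have h : (A 0 0 + A 1 1 - 2) * (A 0 0 + A 1 1 + 2) = 0 := by linear_combination hD
    rcases mul_eq_zero.1 h with h | h
    · exact ⟨1, Or.inl rfl, by linear_combination h⟩
    · exact ⟨-1, Or.inr rfl, by linear_combination h⟩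
  have he2 : e * e = 1 := by rcases he with rfl | rfl <;> ring
  have hℓ := (Fact.out : ℓ.Prime)
  have hsq : ((A : Matrix (Fin 2) (Fin 2) K) - e • 1) * ((A : Matrix (Fin 2) (Fin 2) K) - e • 1) = 0 := by
    ext i j
    fin_cases i <;> fin_cases j <;> simp [Matrix.mul_apply, Fin.sum_univ_two]
    · linear_combination A 0 0 * ht - hdet + he2
    · linear_combination A 0 1 * ht
    · linear_combination A 1 0 * ht
    · linear_combination A 1 1 * ht - hdet + he2
  have hpow : ((A : Matrix (Fin 2) (Fin 2) K)) ^ ℓ = (e ^ ℓ) • 1 := by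
    have h1 := sub_pow_char_of_commute ((Commute.one_right (A : Matrix (Fin 2) (Fin 2) K)).smul_right e)
      (p := ℓ)
    have h0 : ((A : Matrix (Fin 2) (Fin 2) K) - e • 1) ^ ℓ = 0 := by
      obtain ⟨k, hk⟩ := Nat.exists_eq_add_of_le hℓ.two_le
      rw [hk, pow_add, pow_two, hsq, zero_mul]
    rw [h0, smul_pow, one_pow] at h1
    exact sub_eq_zero.1 h1.symm
  have hel : e ^ ℓ = 1 ∨ e ^ ℓ = -1 := by
    rcases he with rfl | rfl
    · exact Or.inl (one_pow ℓ)
    · exact neg_one_pow_eq_or K ℓ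
  rcases hel with h | h <;> rw [h] at hpow
  · rw [show A ^ ℓ = 1 from Matrix.SpecialLinearGroup.ext _ _ fun i j => by
      have := congrFun (congrFun hpow i) j
      simpa using this]
    exact one_mem _
  · rw [show A ^ ℓ = -1 from Matrix.SpecialLinearGroup.ext _ _ fun i j => by
      have := congrFun (congrFun hpow i) j
      simpa using this]
    exact neg_one_center

/-- Elements of `PSL(2, K)` are real, or killed by the characteristic. -/
theorem psl_real {ℓ : ℕ} [Fact ℓ.Prime] [CharP K ℓ] (hℓ : ℓ ≠ 2) (g : Matrix.ProjectiveSpecialLinearGroup (Fin 2) K) :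
    (∃ y, y * g * y⁻¹ = g⁻¹) ∨ g ^ ℓ = 1 := by
  obtain ⟨A, rfl⟩ := QuotientGroup.mk_surjective g
  have h2 : (2 : K) ≠ 0 := Ring.two_ne_zero (by rw [ringChar.eq K ℓ]; exact hℓ)
  by_cases hD : (A 0 0 + A 1 1) ^ 2 = 4
  · refine Or.inr ?_
    rw [← QuotientGroup.mk_pow, QuotientGroup.eq_one_iff]
    exact pow_char_central A hD
  · obtain ⟨B, hB⟩ := exists_inverting h2 A (Or.inl hD)
    exact Or.inl ⟨QuotientGroup.mk B, by rw [← QuotientGroup.mk_inv, ← QuotientGroup.mk_mul, ← QuotientGroup.mk_mul, hB, QuotientGroup.mk_inv]⟩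

/-- All elements of `PSL(2, K)` are real if `-1` is a square. -/
theorem psl_real_of_square (h2 : (2 : K) ≠ 0) (hi : IsSquare (-1 : K))
    (g : Matrix.ProjectiveSpecialLinearGroup (Fin 2) K) : ∃ y, y * g * y⁻¹ = g⁻¹ := by
  obtain ⟨A, rfl⟩ := QuotientGroup.mk_surjective g
  obtain ⟨B, hB⟩ := exists_inverting h2 A (Or.inr hi)
  exact ⟨QuotientGroup.mk B, by rw [← QuotientGroup.mk_inv, ← QuotientGroup.mk_mul, ← QuotientGroup.mk_mul, hB, QuotientGroup.mk_inv]⟩

end CfsgLib.Perm.Trans.ThreeRes.Socle
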