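import Cfsg.Agent.Lib.Perm.Trans.ThreeRes.Socle.Basic
import Cfsg.Agent.Lib.Perm.Trans.ThreeRes.Socle.Real
import Cfsg.Agent.Lib.Classical.SL2OddSylow
import Cfsg.Agent.Lib.Char.SmallSpectra

/-!
# The socle `PSL(2, K)`: all traces self-dual unless `K` has seven or nine elements
-/

set_option autoImplicit false
set_option linter.all false

namespace CfsgLib.Perm.Trans.ThreeRes.Socle

open scoped Matrix commutatorElement
open Matrix Cfsg.Geo

universe v

section Model

variable {K : Type v} [Field K]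

/-- unipotent matrices -/
def uSL (x : K) : Matrix.SpecialLinearGroup (Fin 2) K :=
  ⟨!![1, x; 0, 1], by simp [Matrix.det_fin_two_of]⟩

/-- diagonal matrices -/
def dSL (a : Kˣ) : Matrix.SpecialLinearGroup (Fin 2) K :=
  ⟨!![(a : K), 0; 0, (↑a⁻¹ : K)], by simp [Matrix.det_fin_two_of]⟩

theorem uSL_coe (x : K) : (uSL x : Matrix (Fin 2) (Fin 2) K) = !![1, x; 0, 1] := rfl

theorem dSL_coe (a : Kˣ) : (dSL a : Matrix (Fin 2) (Fin 2) K) = !![(a : K), 0; 0, (↑a⁻¹ : K)] := rfl

/-- unipotent elements -/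
def uni (x : K) : Matrix.ProjectiveSpecialLinearGroup (Fin 2) K := QuotientGroup.mk (uSL x)

/-- diagonal elements -/
def dia (a : Kˣ) : Matrix.ProjectiveSpecialLinearGroup (Fin 2) K := QuotientGroup.mk (dSL a)

theorem uni_mul (x y : K) : uni x * uni y = uni (x + y) := by
  unfold uni
  rw [← QuotientGroup.mk_mul]
  congr 1
  ext i j
  rw [Matrix.SpecialLinearGroup.coe_mul, uSL_coe, uSL_coe, uSL_coe]
  fin_cases i <;> fin_cases j <;> simp [Matrix.mul_apply, Fin.sum_univ_two, add_comm]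

theorem uni_zero : uni (0 : K) = 1 := by
  refine (QuotientGroup.eq_one_iff _).2 ?_
  have e : uSL (0 : K) = 1 := by
    ext i j
    rw [uSL_coe, Matrix.SpecialLinearGroup.coe_one, Matrix.one_fin_two]
  rw [e]
  exact Subgroup.one_mem _

theorem uni_inj {x y : K} (h : uni x = uni y) : x = y := by
  have h1 : uni (-x) * uni y = (1 : Matrix.ProjectiveSpecialLinearGroup (Fin 2) K) := by
    rw [← h, uni_mul, neg_add_cancel, uni_zero]
  rw [uni_mul] at h1
  obtain ⟨r, -, hr⟩ := Matrix.SpecialLinearGroup.mem_center_iff.1 ((QuotientGroup.eq_one_iff _).1 h1)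
  have := congrFun (congrFun hr 0) 1
  simp [uSL_coe] at this
  linear_combination this

theorem dia_uni (a : Kˣ) (x : K) : dia a * uni x * (dia a)⁻¹ = uni ((a : K) * a * x) := by
  rw [mul_inv_eq_iff_eq_mul]
  unfold dia uni
  rw [← QuotientGroup.mk_mul, ← QuotientGroup.mk_mul]
  congr 1
  ext i j
  rw [Matrix.SpecialLinearGroup.coe_mul, Matrix.SpecialLinearGroup.coe_mul, dSL_coe, uSL_coe, uSL_coe]
  fin_cases i <;> fin_cases j <;> simp [Matrix.mul_apply, Fin.sum_univ_two]
  field_simp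

variable (K) in
/-- the unipotent subgroup -/
def uniGroup : Subgroup (Matrix.ProjectiveSpecialLinearGroup (Fin 2) K) where
  carrier := Set.range uni
  one_mem' := ⟨0, uni_zero⟩
  mul_mem' := by rintro _ _ ⟨x, rfl⟩ ⟨y, rfl⟩; exact ⟨x + y, (uni_mul x y).symm⟩
  inv_mem' := by
    rintro _ ⟨x, rfl⟩
    exact ⟨-x, (inv_eq_of_mul_eq_one_right (by rw [uni_mul, add_neg_cancel, uni_zero])).symm⟩

theorem uni_pow (x : K) (n : ℕ) : uni x ^ n = uni ((n : K) * x) := by
  induction n with
  | zero => simp [uni_zero]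
  | succ n ih => rw [pow_succ, ih, uni_mul]; push_cast; ring_nf

variable [Fintype K]

/-- half the units are distinct squares -/
theorem exists_squares : ∃ T : Finset Kˣ, Fintype.card K ≤ 2 * T.card + 1 ∧
    ∀ a ∈ T, ∀ b ∈ T, a * a = b * b → a = b := by
  classical
  let f : Kˣ → Kˣ := fun a => a * a
  refine ⟨(Finset.univ.image f).image (Function.invFun f), ?_, ?_⟩
  · have h1 : (Finset.univ : Finset Kˣ).card ≤ 2 * (Finset.univ.image f).card := by
      refine Finset.card_le_mul_card_image _ 2 fun b _ => ?_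
      by_cases hb : ∃ a, f a = b
      · obtain ⟨a, rfl⟩ := hb
        refine (Finset.card_le_card (t := {a, -a}) fun c hc => ?_).trans Finset.card_le_two
        rw [Finset.mem_filter] at hc
        have h : (c : K) * c = a * a := congrArg Units.val hc.2
        rcases mul_self_eq_mul_self_iff.1 h with h | h
        · simp [Units.ext h]
        · simp [show c = -a from Units.ext (by simpa using h)]
      · rw [Finset.filter_eq_empty_iff.2 fun a _ e => hb ⟨a, e⟩]; simp
    rw [Finset.card_univ, Fintype.card_units] at h1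
    have h2 : ((Finset.univ.image f).image (Function.invFun f)).card = (Finset.univ.image f).card := by
      refine Finset.card_image_of_injOn fun b hb c hc e => ?_
      obtain ⟨x, -, rfl⟩ := Finset.mem_image.1 hb
      obtain ⟨y, -, rfl⟩ := Finset.mem_image.1 hc
      rw [← Function.invFun_eq (f := f) ⟨x, rfl⟩, ← Function.invFun_eq (f := f) ⟨y, rfl⟩, e]
    omega
  · intro a ha b hb e
    obtain ⟨c, hc, rfl⟩ := Finset.mem_image.1 ha
    obtain ⟨d, hd, rfl⟩ := Finset.mem_image.1 hb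
    obtain ⟨x, -, rfl⟩ := Finset.mem_image.1 hc
    obtain ⟨y, -, rfl⟩ := Finset.mem_image.1 hd
    have ex : f (Function.invFun f (f x)) = f x := Function.invFun_eq ⟨x, rfl⟩
    have ey : f (Function.invFun f (f y)) = f y := Function.invFun_eq ⟨y, rfl⟩
    rw [← ex.symm.trans ((show f _ = f _ from e).trans ey)]

/-- Sylow three-subgroups are cyclic away from characteristic three. -/
theorem sylow_three_cyclic (hodd : Odd (Fintype.card K)) (h3 : (3 : K) ≠ 0)
    (T : Sylow 3 (Matrix.ProjectiveSpecialLinearGroup (Fin 2) K)) :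
    IsCyclic (T : Subgroup (Matrix.ProjectiveSpecialLinearGroup (Fin 2) K)) := by
  classical
  haveI : Fact (Nat.Prime 3) := ⟨Nat.prime_three⟩
  obtain ⟨P, hP⟩ := Sylow.mapSurjective_surjective
    (QuotientGroup.mk'_surjective (Subgroup.center (Matrix.SpecialLinearGroup (Fin 2) K))) 3 T
  set C := Subgroup.centralizer (((P : Subgroup (Matrix.SpecialLinearGroup (Fin 2) K)) : Set (Matrix.SpecialLinearGroup (Fin 2) K))) with hC
  have hcard : Nat.card (Matrix.SpecialLinearGroup (Fin 2) K) =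
      Fintype.card K * ((Fintype.card K - 1) * (Fintype.card K + 1)) := CfsgLib.Classical.card_sl2
  obtain ⟨ℓ, hchar⟩ := CharP.exists K
  haveI := hchar
  obtain ⟨k, hℓ, hk⟩ := FiniteField.card K ℓ
  have hn3 : ¬ 3 ∣ Fintype.card K := by
    intro hd
    rw [hk] at hd
    have := (Nat.prime_dvd_prime_iff_eq Nat.prime_three hℓ).1 (Nat.prime_three.dvd_of_dvd_pow hd)
    subst this
    exact h3 (by exact_mod_cast CharP.cast_eq_zero K 3)
  have key : ∀ m, (Nat.card C = m ∧ IsCyclic C) → 3 ∣ m → (m = Fintype.card K - 1 ∨ m = Fintype.card K + 1) →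
      IsCyclic (T : Subgroup (Matrix.ProjectiveSpecialLinearGroup (Fin 2) K)) := by
    rintro m ⟨hm, hcyc⟩ h3m hor
    have hPC : (P : Subgroup (Matrix.SpecialLinearGroup (Fin 2) K)) ≤ C := by
      obtain ⟨R⟩ : Nonempty (Sylow 3 C) := inferInstance
      have hR : IsPGroup 3 ((R : Subgroup C).map C.subtype) := R.2.map _
      have hRP : (R : Subgroup C).map C.subtype ≤ P := by
        have hn : (R : Subgroup C).map C.subtype ≤
            Subgroup.normalizer (((P : Subgroup (Matrix.SpecialLinearGroup (Fin 2) K)) : Set (Matrix.SpecialLinearGroup (Fin 2) K))) :=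
          ((Subgroup.map_subtype_le _).trans (Subgroup.centralizer_le_normalizer _))
        have hsup := hR.to_sup_of_normal_right' P.2 hn
        exact le_sup_left.trans (P.3 hsup le_sup_right).le
      have hcardP : Nat.card P = Nat.card ((R : Subgroup C).map C.subtype) := by
        rw [Subgroup.card_map_of_injective C.subtype_injective, P.card_eq_multiplicity,
          R.card_eq_multiplicity, hm, hcard]
        congr 1
        have hq := Fintype.one_lt_card (α := K)
        rw [Nat.factorization_mul (by omega) (Nat.mul_ne_zero (by omega) (by omega)),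
          Nat.factorization_mul (by omega) (by omega)]
        simp only [Finsupp.coe_add, Pi.add_apply]
        rw [Nat.factorization_eq_zero_of_not_dvd hn3]
        have hne : ¬ (3 ∣ Fintype.card K - 1 ∧ 3 ∣ Fintype.card K + 1) := fun ⟨a, b⟩ => by omega
        rcases hor with rfl | rfl
        · rw [Nat.factorization_eq_zero_of_not_dvd fun h => hne ⟨h3m, h⟩]; omega
        · rw [Nat.factorization_eq_zero_of_not_dvd fun h => hne ⟨h, h3m⟩]; omega
      rw [← Subgroup.eq_of_le_of_card_ge hRP hcardP.le]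
      exact Subgroup.map_subtype_le _
    haveI : IsCyclic P := isCyclic_of_injective (Subgroup.inclusion hPC) (Subgroup.inclusion_injective hPC)
    rw [← hP, Sylow.coe_mapSurjective]
    exact isCyclic_of_surjective ((QuotientGroup.mk' _).subgroupMap _) (MonoidHom.subgroupMap_surjective _ _)
  obtain ⟨h1, h2⟩ := CfsgLib.Classical.SL2OddSylow.odd_sylow hodd 3 (by norm_num) P
  by_cases hd : 3 ∣ Fintype.card K - 1
  · exact key _ ⟨(h1 hd).1, (h1 hd).2.1⟩ hd (Or.inl rfl)
  · have hd2 : 3 ∣ Fintype.card K + 1 := by omega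
    exact key _ ⟨(h2 hd2).1, (h2 hd2).2.1⟩ hd2 (Or.inr rfl)

/-- In characteristic three, beyond nine elements, some squares avoid the forbidden relation. -/
theorem exists_square_triple (h3 : (3 : K) = 0) (h9 : 10 ≤ Fintype.card K) :
    ∃ a b c : Kˣ, (a : K) * a + b * b = c * c ∧
      ((↑a⁻¹ : K) * ↑a⁻¹ + (↑b⁻¹ : K) * ↑b⁻¹ - (↑c⁻¹ : K) * ↑c⁻¹) ≠ 0 := by
  classical
  let f : Polynomial K := Polynomial.X * (Polynomial.X ^ 4 - 1) *
    ((Polynomial.X ^ 2 - 1) ^ 2 - Polynomial.C 4 * Polynomial.X ^ 2)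
  have hd : f.natDegree ≤ 9 := by
    simp only [f]
    compute_degree
  have hf : f ≠ 0 := by
    intro e
    have := congrArg (fun g : Polynomial K => g.coeff 9) e
    simp only [f, Polynomial.coeff_zero] at this
    rw [show Polynomial.X * (Polynomial.X ^ 4 - 1) *
      ((Polynomial.X ^ 2 - 1) ^ 2 - Polynomial.C 4 * Polynomial.X ^ 2) =
      Polynomial.X ^ 9 + Polynomial.C (-6 : K) * Polynomial.X ^ 7 + Polynomial.C (6 : K) * Polynomial.X ^ 3
        - Polynomial.X ^ 1 by simp only [map_neg, map_ofNat]; ring] at this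
    simp [Polynomial.coeff_X_pow, Polynomial.coeff_C_mul, Polynomial.coeff_X] at this
  obtain ⟨u, hu⟩ : ∃ u : K, f.eval u ≠ 0 := by
    by_contra hc
    push Not at hc
    exact hf (Polynomial.eq_zero_of_natDegree_lt_card_of_eval_eq_zero' f Finset.univ (fun u _ => hc u)
      (by rw [Finset.card_univ]; omega))
  simp only [f, Polynomial.eval_mul, Polynomial.eval_sub, Polynomial.eval_pow, Polynomial.eval_X,
    Polynomial.eval_one, Polynomial.eval_C, mul_ne_zero_iff] at hu
  obtain ⟨⟨hu0, hu4⟩, hu8⟩ := hu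
  have h2 : (2 : K) ≠ 0 := fun h => one_ne_zero (α := K) (by linear_combination h3 - h)
  have ha : 2 * u ≠ 0 := mul_ne_zero h2 hu0
  have hb : u * u - 1 ≠ 0 := fun h => hu4 (by linear_combination (u * u + 1) * h)
  have hc : u * u + 1 ≠ 0 := fun h => hu4 (by linear_combination (u * u - 1) * h)
  refine ⟨Units.mk0 _ ha, Units.mk0 _ hb, Units.mk0 _ hc, by simp only [Units.val_mk0]; ring, ?_⟩
  simp only [Units.val_inv_eq_inv_val, Units.val_mk0]
  intro h
  obtain ⟨A, hA⟩ : ∃ A, A = 2 * u := ⟨_, rfl⟩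
  obtain ⟨B, hB⟩ : ∃ B, B = u * u - 1 := ⟨_, rfl⟩
  obtain ⟨C, hC⟩ : ∃ C, C = u * u + 1 := ⟨_, rfl⟩
  rw [← hA, ← hB, ← hC] at h
  rw [← hA] at ha; rw [← hB] at hb; rw [← hC] at hc
  have h' : B ^ 2 * C ^ 2 + A ^ 2 * C ^ 2 - A ^ 2 * B ^ 2 = 0 := by
    calc B ^ 2 * C ^ 2 + A ^ 2 * C ^ 2 - A ^ 2 * B ^ 2
        = (A⁻¹ * A⁻¹ + B⁻¹ * B⁻¹ - C⁻¹ * C⁻¹) * (A * B * C) ^ 2 := by field_simp
      _ = 0 := by rw [h, zero_mul]
  subst hA hB hC
  have key : (((u * u - 1) ^ 2 - 4 * u ^ 2)) ^ 2 = 0 := by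
    linear_combination h' - 4 * u ^ 2 * (u * u - 1) ^ 2 * h3
  exact hu8 (by linear_combination eq_zero_of_pow_eq_zero key)

end Model

variable {F : Type*} [Field F] [Fintype F] {P : Subgroup (GL (Fin 3) F)}

theorem finite_P : Finite P := inferInstance

/-- No scalars away from `K` of nine elements. -/
theorem scal_bot_ltwo (hP : Quasi P) {K : Type v} [Field K] [Fintype K] (hodd : Odd (Fintype.card K))
    (h9 : Fintype.card K ≠ 9) (h3 : 3 < Fintype.card K)
    (e : (P ⧸ scal P) ≃* Matrix.ProjectiveSpecialLinearGroup (Fin 2) K) : scal P = ⊥ := by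
  classical
  haveI : Fact (Nat.Prime 3) := ⟨Nat.prime_three⟩
  let π : P →* Matrix.ProjectiveSpecialLinearGroup (Fin 2) K := e.toMonoidHom.comp (QuotientGroup.mk' (scal P))
  have hπ : ∀ a b : P, π a = π b → ∃ z ∈ scal P, b = a * z := fun a b h =>
    ⟨a⁻¹ * b, QuotientGroup.eq.1 (e.injective h), (mul_inv_cancel_left a b).symm⟩
  obtain ⟨T⟩ : Nonempty (Sylow 3 P) := inferInstance
  refine scal_bot_of_abelian hP T fun a ha b hb => ?_
  by_cases hK : (3 : K) = 0
  · obtain ⟨ℓ, hchar⟩ := CharP.exists K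
    haveI := hchar
    obtain ⟨k, hℓ, hk⟩ := FiniteField.card K ℓ
    obtain rfl : ℓ = 3 :=
      (Nat.prime_dvd_prime_iff_eq hℓ Nat.prime_three).1 ((CharP.cast_eq_zero_iff K ℓ 3).1 (by exact_mod_cast hK))
    have h10 : 10 ≤ Fintype.card K := by
      have hk' : (k : ℕ) ≠ 1 := fun h => by rw [hk, h] at h3; norm_num at h3
      have hk'' : (k : ℕ) ≠ 2 := fun h => h9 (by rw [hk, h]; norm_num)
      have h27 : 3 ^ 3 ≤ 3 ^ (k : ℕ) := Nat.pow_le_pow_right (by norm_num) (by have := k.pos; omega)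
      rw [hk]; omega
    -- the image of `T` is a conjugate of the unipotent group
    have hUcard : Nat.card (uniGroup K) = Fintype.card K := by
      rw [← Nat.card_eq_fintype_card]
      exact (Nat.card_congr (Equiv.ofInjective uni fun x y h => uni_inj h)).symm
    have hUp : IsPGroup 3 (uniGroup K) := IsPGroup.of_card (n := k) (by rw [hUcard, hk])
    obtain ⟨U', hU'⟩ := hUp.exists_le_sylow
    have hUeq : (U' : Subgroup _) = uniGroup K := by
      refine (Subgroup.eq_of_le_of_card_ge hU' ?_).symm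
      rw [U'.card_eq_multiplicity, hUcard]
      have hcard := CfsgLib.Char.TwoChars.card_psl_odd (F := K) hodd
      have hd : 3 ^ (Nat.card (Matrix.ProjectiveSpecialLinearGroup (Fin 2) K)).factorization 3 ∣
          (Fintype.card K + 1) * ((Fintype.card K - 1) * Fintype.card K) :=
        hcard ▸ (Nat.ordProj_dvd _ 3).mul_right 2
      have h3K : 3 ∣ Fintype.card K := by rw [hk]; exact dvd_pow_self 3 k.ne_zero
      rw [← mul_assoc] at hd
      refine Nat.le_of_dvd (by omega) ((Nat.Coprime.pow_left _ ?_).dvd_of_dvd_mul_left hd)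
      rw [Nat.prime_three.coprime_iff_not_dvd, Nat.prime_three.dvd_mul]
      omega
    obtain ⟨T', hT'⟩ := (T.2.map π).exists_le_sylow
    obtain ⟨g, hg⟩ := MulAction.exists_smul_eq (Matrix.ProjectiveSpecialLinearGroup (Fin 2) K) U' T'
    obtain ⟨y, hy⟩ := (e.surjective.comp (QuotientGroup.mk'_surjective (scal P))) g
    have hpre : ∀ c ∈ (T : Subgroup P), ∃ x : K, π (y⁻¹ * c * y) = uni x := by
      intro c hc
      have := hT' (Subgroup.mem_map_of_mem π hc)
      rw [← hg, Sylow.coe_subgroup_smul, hUeq] at this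
      obtain ⟨_, ⟨x, rfl⟩, hx⟩ := this
      have hx' : g * uni x * g⁻¹ = π c := hx
      refine ⟨x, ?_⟩
      rw [map_mul, map_mul, map_inv, show π y = g from hy, ← hx']
      group
    obtain ⟨x, hx⟩ := hpre a ha
    obtain ⟨x', hx'⟩ := hpre b hb
    have hlift : ∀ z : K, ∃ c : P, π c = uni z := fun z => e.surjective.comp (QuotientGroup.mk'_surjective _) _
    choose lam hlam using hlift
    have hcong : ∀ {c c' d d' : P}, π c = π c' → π d = π d' → ⁅c, d⁆ = ⁅c', d'⁆ := by
      intro c c' d d' h1 h2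
      obtain ⟨z, hz, rfl⟩ := hπ _ _ h1
      obtain ⟨z', hz', rfl⟩ := hπ _ _ h2
      have hzc : ∀ (w : P), z * w = w * z := fun w => (scal_comm hP hz w).symm
      have hzc' : ∀ (w : P), z' * w = w * z' := fun w => (scal_comm hP hz' w).symm
      rw [commutatorElement_def, commutatorElement_def, _root_.mul_inv_rev, _root_.mul_inv_rev]
      calc c * d * c⁻¹ * d⁻¹ = c * d * (z * z⁻¹) * c⁻¹ * (z' * z'⁻¹) * d⁻¹ := by group
        _ = c * (d * z) * (z⁻¹ * c⁻¹) * (z' * (z'⁻¹ * d⁻¹)) := by group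
        _ = c * (z * d) * ((z⁻¹ * c⁻¹) * z') * (z'⁻¹ * d⁻¹) := by rw [← hzc]; group
        _ = c * (z * d) * (z' * (z⁻¹ * c⁻¹)) * (z'⁻¹ * d⁻¹) := by rw [← hzc' (z⁻¹ * c⁻¹)]
        _ = _ := by group
    let f : K → K → P := fun s t => ⁅lam s, lam t⁆
    have hfz : ∀ s t, f s t ∈ scal P := by
      intro s t
      refine (QuotientGroup.eq_one_iff _).1 (e.injective ?_)
      show π (f s t) = e 1
      rw [map_one, map_commutatorElement, hlam, hlam, commutatorElement_eq_one_iff_mul_comm, uni_mul,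
        uni_mul, add_comm]
    have hadd : ∀ s s' t, f (s + s') t = f s t * f s' t := by
      intro s s' t
      have : f (s + s') t = ⁅lam s * lam s', lam t⁆ :=
        hcong (by rw [map_mul, hlam, hlam, hlam, uni_mul]) rfl
      rw [this, commutatorElement_mul_left_eq_conj_mul]
      show lam s * f s' t * (lam s)⁻¹ * f s t = _
      rw [scal_comm hP (hfz s' t), mul_inv_cancel_right, scal_comm hP (hfz s t)]
    have hadd' : ∀ s t t', f s (t + t') = f s t * f s t' := by
      intro s t t'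
      have : f s (t + t') = ⁅lam s, lam t * lam t'⁆ :=
        hcong rfl (by rw [map_mul, hlam, hlam, hlam, uni_mul])
      rw [this, commutatorElement_mul_right_eq_mul_conj]
      show f s t * lam t * f s t' * (lam t)⁻¹ = _
      rw [mul_assoc (f s t), scal_comm hP (hfz s t') (lam t), ← mul_assoc, mul_inv_cancel_right]
    have hneg : ∀ s t, f s (-t) = (f s t)⁻¹ := by
      intro s t
      have h0 : f s 0 = 1 := by
        have := hadd' s 0 0
        rw [add_zero] at this
        exact mul_eq_left.1 this.symm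
      refine eq_inv_of_mul_eq_one_left ?_
      rw [← hadd', neg_add_cancel, h0]
    have hinv : ∀ (c : Kˣ) s t, f ((c : K) * c * s) t = f s ((↑c⁻¹ : K) * ↑c⁻¹ * t) := by
      intro c s t
      obtain ⟨w, hw⟩ := e.surjective.comp (QuotientGroup.mk'_surjective (scal P)) (dia c)
      have hw' : π w = dia c := hw
      have h1 : f ((c : K) * c * s) t = ⁅w * lam s * w⁻¹, w * lam ((↑c⁻¹ : K) * ↑c⁻¹ * t) * w⁻¹⁆ := by
        refine hcong ?_ ?_
        · rw [map_mul, map_mul, map_inv, hw', hlam, hlam, dia_uni]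
        · rw [map_mul, map_mul, map_inv, hw', hlam, hlam, dia_uni]
          congr 1
          rw [← mul_assoc, ← mul_assoc, mul_assoc (c : K) c, Units.mul_inv, mul_one, Units.mul_inv, one_mul]
      rw [h1, show ⁅w * lam s * w⁻¹, w * lam ((↑c⁻¹ : K) * ↑c⁻¹ * t) * w⁻¹⁆ =
        w * f s ((↑c⁻¹ : K) * ↑c⁻¹ * t) * w⁻¹ by simp only [f, commutatorElement_def]; group,
        scal_comm hP (hfz _ _), mul_inv_cancel_right]
    obtain ⟨p, q, r, hpq, hne⟩ := exists_square_triple hK h10
    have hzero : ∀ s t, f s t = 1 := by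
      intro s t
      obtain ⟨d, hd⟩ : ∃ d, d = ((↑p⁻¹ : K) * ↑p⁻¹ + (↑q⁻¹ : K) * ↑q⁻¹ - (↑r⁻¹ : K) * ↑r⁻¹) := ⟨_, rfl⟩
      obtain ⟨t', rfl⟩ : ∃ t', t = d * t' := ⟨d⁻¹ * t, by rw [hd, mul_inv_cancel_left₀ hne]⟩
      rw [hd, sub_mul, add_mul, sub_eq_add_neg, hadd', hadd', hneg, ← hinv, ← hinv, ← hinv, ← hadd,
        ← add_mul, hpq, mul_inv_cancel]
    have h1 : ⁅y⁻¹ * a * y, y⁻¹ * b * y⁆ = 1 := by
      rw [hcong (hx.trans (hlam x).symm) (hx'.trans (hlam x').symm)]
      exact hzero x x'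
    rw [commutatorElement_eq_one_iff_mul_comm] at h1
    calc a * b = y * ((y⁻¹ * a * y) * (y⁻¹ * b * y)) * y⁻¹ := by group
      _ = _ := by rw [h1]; group
  · obtain ⟨T', hT'⟩ := (T.2.map π).exists_le_sylow
    haveI := sylow_three_cyclic hodd hK T'
    haveI : IsCyclic ((T : Subgroup P).map π) :=
      isCyclic_of_injective (Subgroup.inclusion hT') (Subgroup.inclusion_injective hT')
    obtain ⟨⟨_, c, hc, rfl⟩, hgen⟩ := IsCyclic.exists_generator (α := (T : Subgroup P).map π)
    have hform : ∀ d ∈ (T : Subgroup P), ∃ (i : ℤ) (z : P), z ∈ scal P ∧ d = c ^ i * z := by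
      intro d hd
      obtain ⟨i, hi⟩ := hgen ⟨π d, Subgroup.mem_map_of_mem π hd⟩
      obtain ⟨z, hz, e'⟩ := hπ (c ^ i) d (by rw [map_zpow]; exact congrArg Subtype.val hi)
      exact ⟨i, z, hz, e'⟩
    obtain ⟨i, z, hz, rfl⟩ := hform a ha
    obtain ⟨j, z', hz', rfl⟩ := hform b hb
    have c1 : Commute (c ^ i) (c ^ j) := (Commute.refl c).zpow_zpow i j
    have c2 : ∀ w, Commute w z := fun w => scal_comm hP hz w
    have c3 : ∀ w, Commute w z' := fun w => scal_comm hP hz' w
    exact ((c1.mul_right (c3 _)).mul_left (c2 _).symm).eq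

/-- With socle `PSL(2, K)` the traces are self-dual, or `K` has seven elements, or nine and the
scalars are not trivial. -/
theorem ltwo_cases (hP : Quasi P) {p : ℕ} [Fact p.Prime] [CharP F p] {K : Type v} [Field K] [Fintype K]
    (hodd : Odd (Fintype.card K)) (h3 : 3 < Fintype.card K)
    (e : (P ⧸ scal P) ≃* Matrix.ProjectiveSpecialLinearGroup (Fin 2) K) :
    (∀ g : P, tr g⁻¹ = tr g) ∨ (Fintype.card K = 7 ∧ p ≠ 7 ∧ scal P = ⊥) ∨
      (Fintype.card K = 9 ∧ p ≠ 3 ∧ scal P ≠ ⊥) := by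
  classical
  by_cases h9' : Fintype.card K = 9 ∧ scal P ≠ ⊥
  · refine Or.inr (Or.inr ⟨h9'.1, fun hp3 => ?_, h9'.2⟩)
    subst hp3
    exact h9'.2 (scal_three hP)
  have hbot : scal P = ⊥ := by
    by_cases h9 : Fintype.card K = 9
    · exact not_not.1 fun h => h9' ⟨h9, h⟩
    · exact scal_bot_ltwo hP hodd h9 h3 e
  obtain ⟨ℓ, hchar⟩ := CharP.exists K
  haveI := hchar
  obtain ⟨k, hℓ, hk⟩ := FiniteField.card K ℓ
  haveI : Fact ℓ.Prime := ⟨hℓ⟩
  have hℓ2 : ℓ ≠ 2 := fun h => by
    rw [hk, h, Nat.odd_pow_iff k.ne_zero] at hodd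
    exact absurd hodd (by decide)
  have h2K : (2 : K) ≠ 0 := Ring.two_ne_zero (by rw [ringChar.eq K ℓ]; exact hℓ2)
  let π : P →* Matrix.ProjectiveSpecialLinearGroup (Fin 2) K := e.toMonoidHom.comp (QuotientGroup.mk' (scal P))
  have hinj : Function.Injective π := by
    refine (MonoidHom.ker_eq_bot_iff π).1 (eq_bot_iff.2 fun g hg => ?_)
    rw [← hbot]
    exact (QuotientGroup.eq_one_iff g).1 (e.injective (hg.trans (map_one e).symm))
  let ψ := (MulEquiv.ofBijective π ⟨hinj, e.surjective.comp (QuotientGroup.mk'_surjective _)⟩)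
  have hdual : ∀ g : P, (∃ y, y * π g * y⁻¹ = (π g)⁻¹) → tr g⁻¹ = tr g := by
    rintro g ⟨y, hy⟩
    obtain ⟨y', rfl⟩ := ψ.surjective y
    have : y' * g * y'⁻¹ = g⁻¹ := hinj (by rw [map_mul, map_mul, map_inv, map_inv]; exact hy)
    rw [← this, tr_conj]
  by_cases hsq : IsSquare (-1 : K)
  · exact Or.inl fun g => hdual g (psl_real_of_square h2K hsq (π g))
  by_cases hℓp : ℓ = p
  · subst hℓp
    refine Or.inl fun g => ?_
    rcases psl_real hℓ2 (π g) with h | h
    · exact hdual g h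
    · exact tr_inv_of_pow_char (p := ℓ) (hinj (by rw [map_pow, h, map_one]))
  -- a Borel subgroup
  refine Or.inr (Or.inl ?_)
  let A := AlgebraicClosure F
  let ρ : Matrix.ProjectiveSpecialLinearGroup (Fin 2) K →* Matrix (Fin 3) (Fin 3) A :=
    (((algebraMap F A).mapMatrix : Matrix (Fin 3) (Fin 3) F →+* Matrix (Fin 3) (Fin 3) A).toMonoidHom.comp
      ((Units.coeHom (Matrix (Fin 3) (Fin 3) F)).comp P.subtype)).comp ψ.symm.toMonoidHom
  have hρ : Function.Injective ρ := by
    intro x y h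
    apply ψ.symm.injective
    apply Subtype.ext
    apply Units.ext
    exact Matrix.map_injective (algebraMap F A).injective h
  have hne : ∃ a ∈ uniGroup K, ρ a ≠ 1 := ⟨uni 1, ⟨1, rfl⟩, fun h => one_ne_zero (α := K)
    (uni_inj ((hρ (h.trans (map_one ρ).symm)).trans uni_zero.symm))⟩
  obtain ⟨T, hTc, hTinj⟩ := exists_squares (K := K)
  have hdinj : Set.InjOn (dia : Kˣ → _) T := by
    intro a ha b hb h
    refine hTinj a ha b hb (Units.ext ?_)
    have := dia_uni a (1 : K)
    rw [h, dia_uni] at this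
    simpa using (uni_inj this).symm
  have hℓA : (ℓ : A) ≠ 0 := by
    intro h
    haveI : CharP A p := charP_of_injective_algebraMap (algebraMap F A).injective p
    exact hℓp ((Nat.prime_dvd_prime_iff_eq (Fact.out : p.Prime) hℓ).1 ((CharP.cast_eq_zero_iff A p ℓ).1 h)).symm
  have hb := card_le_of_fpf ρ (uniGroup K)
    (by rintro _ ⟨x, rfl⟩ _ ⟨y, rfl⟩; rw [uni_mul, uni_mul, add_comm]) hℓA
    (by rintro _ ⟨x, rfl⟩; rw [uni_pow, CharP.cast_eq_zero, zero_mul, uni_zero]) hne (T.image dia)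
    (by
      intro t ht _ ⟨x, hx⟩
      obtain ⟨a, -, rfl⟩ := Finset.mem_image.1 ht
      rw [← hx, dia_uni]
      exact ⟨_, rfl⟩)
    (by
      intro s hs t ht hst _ ⟨w, hw⟩
      obtain ⟨a, ha, rfl⟩ := Finset.mem_image.1 hs
      obtain ⟨b, hb, rfl⟩ := Finset.mem_image.1 ht
      have hab : (a : K) * a - b * b ≠ 0 :=
        sub_ne_zero.2 fun h => hst (by rw [hTinj a ha b hb (Units.ext h)])
      refine ⟨uni (((a : K) * a - b * b)⁻¹ * w), ⟨_, rfl⟩, ?_⟩
      rw [← hw, dia_uni, dia_uni, uni_mul]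
      congr 1
      linear_combination w * mul_inv_cancel₀ hab)
  rw [Finset.card_image_of_injOn hdinj] at hb
  have h7 : Fintype.card K = 7 := by
    have h5 : Fintype.card K ≠ 5 := fun h => hsq ((FiniteField.isSquare_neg_one_iff (F := K)).2 (by omega))
    rw [Nat.odd_iff] at hodd
    omega
  refine ⟨h7, fun hp => hℓp ?_, hbot⟩
  rw [h7] at hk
  rw [hp]
  exact ((Nat.Prime.pow_eq_iff (by norm_num : Nat.Prime 7)).1 hk.symm).1

end CfsgLib.Perm.Trans.ThreeRes.Socle
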