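import Cfsg.Agent.Lib.Perm.Asch.Forms.U3.Common

/-!
# Coded matrices: a subgroup `PSL(2, 7)` of `3.A₇` in `SU_3(5)`
-/

set_option autoImplicit false
set_option linter.all false

namespace CfsgLib.Perm.Trans.ThreeRes.Socle

open CfsgLib.Perm.Asch.U3

/-- the element of order seven -/
def uC : M3 := ((0, 5, 11), (5, 9, 6), (19, 24, 3))

/-- the involution -/
def tC : M3 := ((0, 0, 12), (0, 4, 0), (17, 0, 0))

/-- an element of `3.A₇` moving the subgroup -/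
def aC : M3 := ((0, 0, 1), (0, 1, 0), (4, 0, 0))

/-- certificates for the three matrices on the 105 points -/
def ovCert : List (List (ℕ × ℕ)) :=
  [[(90, 11), (53, 5), (93, 16), (66, 24), (8, 10), (78, 21), (50, 19), (6, 13), (5, 5), (21, 11), (44, 19), (72, 5), (24, 16), (39, 14), (83, 20), (61, 5), (49, 16), (64, 2), (40, 13), (73, 24), (71, 18), (10, 22), (67, 21), (11, 7), (23, 18), (87, 4), (29, 1), (101, 12), (75, 23), (98, 9), (51, 20), (38, 6), (33, 17), (46, 3), (68, 14), (82, 8), (56, 12), (85, 6), (48, 23), (3, 7), (86, 23), (74, 16), (79, 14), (102, 3), (26, 21), (55, 22), (52, 12), (28, 12), (97, 2), (103, 17), (62, 7), (12, 10), (20, 18), (16, 6), (95, 7), (27, 14), (84, 21), (58, 7), (4, 9), (96, 23), (37, 16), (41, 2), (35, 19), (77, 9), (13, 15), (91, 24), (94, 14), (43, 18), (22, 4), (89, 18), (0, 8), (100, 12), (30, 15), (1, 10), (54, 12), (99, 11), (57, 1), (36, 12), (76, 16), (70,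 6), (15, 10), (45, 21), (104, 16), (18, 3), (69, 14), (47, 7), (2, 6), (31, 23), (25, 9), (63, 23), (59, 24), (81, 7), (34, 24), (14, 23), (17, 13), (80, 3), (42, 18), (88, 18), (9, 8), (60, 9), (32, 2), (65, 16), (92, 14), (19, 7), (7, 8)],
    [(8, 12), (1, 4), (62, 12), (75, 18), (82, 17), (15, 4), (30, 1), (55, 13), (0, 17), (11, 12), (14, 18), (9, 17), (12, 4), (13, 1), (10, 13), (5, 4), (65, 12), (47, 24), (96, 6), (79, 18), (54, 23), (89, 7), (94, 12), (63, 24), (81, 6), (49, 18), (48, 12), (76, 24), (68, 6), (95, 18), (6, 1), (78, 12), (93, 24), (50, 6), (66, 18), (90, 23), (53, 7), (64, 14), (80, 16), (60, 2), (40, 4), (103, 1), (84, 3), (43, 4), (100, 1), (51, 17), (72, 13), (17, 21), (26, 17), (25, 13), (33, 9), (45, 12), (98, 18), (36, 11), (20, 19), (7, 18), (73, 15), (104, 2), (58, 4), (86, 1), (39, 3), (70, 10), (2, 17), (23, 21), (37, 8), (16, 17), (34, 13), (92, 22), (28, 9), (83, 5), (61,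 20), (97, 12), (46, 18), (56, 5), (88, 20), (3, 13), (27, 21), (91, 8), (31, 17), (19, 13), (38, 22), (24, 9), (4, 12), (69, 15), (42, 2), (85, 4), (59, 1), (101, 3), (74, 10), (21, 11), (35, 19), (77, 14), (67, 16), (32, 21), (22, 17), (29, 13), (18, 9), (71, 17), (52, 13), (99, 4), (44, 1), (87, 2), (102, 4), (41, 1), (57, 3)],
    [(8, 1), (1, 1), (15, 1), (30, 4), (75, 12), (82, 13), (55, 17), (62, 18), (0, 4), (10, 1), (9, 4), (12, 12), (11, 13), (14, 17), (13, 18), (3, 1), (19, 1), (27, 2), (24, 3), (31, 4), (91, 10), (38, 15), (25, 1), (17, 2), (33, 3), (26, 4), (29, 1), (32, 2), (18, 3), (22, 4), (2, 4), (34, 1), (23, 2), (28, 3), (16, 4), (37, 10), (92, 15), (20, 5), (36, 20), (68, 9), (48, 13), (95, 17), (76, 21), (97, 13), (46, 17), (43, 12), (100, 18), (87, 6), (102, 12), (41, 18), (57, 24), (52, 1), (71, 4), (61, 14), (83, 16), (5, 12), (54, 8), (96, 9), (65, 13), (79, 17), (47, 21), (89, 22),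 (4, 13), (42, 6), (74, 7), (85, 12), (59, 18), (69, 23), (101, 24), (80, 11), (64, 19), (72, 1), (51, 4), (67, 11), (77, 19), (7, 17), (104, 6), (70, 7), (58, 12), (86, 18), (73, 23), (39, 24), (6, 18), (90, 8), (50, 9), (78, 13), (66, 17), (93, 21), (53, 22), (88, 14), (56, 16), (35, 5), (21, 20), (60, 6), (40, 12), (103, 18), (84, 24), (99, 12), (44, 18), (45, 13), (98, 17), (81, 9), (94, 13), (49, 17), (63, 21)]]

/-- the matrix of an element of `SL(3, 2)`, by its code -/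
def tabC : List (ℕ × M3) :=
  [(84, ((1, 13, 6), (18, 2, 17), (21, 12, 1))),
    (85, ((4, 17, 24), (9, 18, 4), (12, 3, 13))),
    (86, ((24, 24, 16), (14, 16, 0), (6, 6, 16))),
    (87, ((6, 6, 14), (24, 24, 14), (16, 14, 0))),
    (92, ((12, 18, 6), (4, 2, 1), (21, 17, 17))),
    (93, ((18, 12, 24), (9, 13, 13), (1, 3, 4))),
    (94, ((2, 9, 14), (20, 11, 0), (3, 21, 14))),
    (95, ((3, 21, 16), (2, 9, 16), (5, 19, 0))),
    (98, ((0, 5, 16), (14, 9, 2), (5, 6, 21))),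
    (99, ((0, 20, 14), (20, 24, 9), (16, 21, 3))),
    (102, ((21, 4, 18), (13, 4, 6), (17, 2, 12))),
    (103, ((9, 1, 12), (13, 3, 18), (17, 1, 24))),
    (106, ((19, 0, 16), (2, 16, 21), (6, 19, 2))),
    (107, ((11, 0, 14), (24, 11, 3), (3, 14, 9))),
    (110, ((13, 3, 12), (13, 4, 24), (9, 1, 18))),
    (111, ((17, 2, 18), (21, 4, 12), (17, 1, 6))),
    (114, ((22, 15, 23), (23, 7, 23), (10, 8, 23))),
    (115, ((8, 10, 7), (15, 22, 7), (7, 23, 7))),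
    (116, ((17, 4, 6), (13, 2, 12), (21, 1, 12))),
    (117, ((13, 1, 24), (9, 4, 18), (17, 3, 18))),
    (122, ((19, 5, 0), (21, 3, 14), (9, 2, 14))),
    (123, ((11, 20, 0), (21, 3, 16), (9, 2, 16))),
    (124, ((0, 0, 12), (0, 4, 0), (17, 0, 0))),
    (125, ((0, 0, 18), (13, 0, 0), (0, 1, 0))),
    (140, ((0, 19, 20), (20, 24, 21), (11, 2, 6))),
    (141, ((7, 8, 10), (23, 23, 7), (7, 15, 22))),
    (142, ((0, 11, 5), (19, 3, 24), (5, 6, 9))),
    (143, ((23, 22, 15), (23, 10, 8), (7, 7, 23))),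
    (156, ((6, 18, 12), (4, 4, 2), (13, 21, 17))),
    (157, ((16, 2, 9), (14, 2, 9), (0, 5, 19))),
    (158, ((24, 12, 18), (17, 9, 13), (1, 1, 3))),
    (159, ((14, 3, 21), (0, 20, 11), (16, 3, 21))),
    (161, ((2, 24, 11), (9, 2, 16), (16, 11, 0))),
    (163, ((3, 6, 19), (14, 19, 0), (21, 3, 14))),
    (165, ((3, 19, 6), (21, 14, 3), (14, 0, 19))),
    (167, ((2, 11, 24), (16, 0, 11), (9, 16, 2))),
    (169, ((23, 15, 22), (7, 23, 7), (23, 8, 10))),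
    (171, ((7, 10, 8), (7, 22, 15), (23, 7, 23))),
    (172, ((0, 5, 11), (5, 9, 6), (19, 24, 3))),
    (174, ((0, 20, 19), (11, 6, 2), (20, 21, 24))),
    (177, ((21, 20, 24), (3, 14, 9), (16, 0, 20))),
    (179, ((9, 5, 6), (14, 0, 5), (2, 16, 21))),
    (181, ((9, 6, 5), (2, 21, 16), (14, 5, 0))),
    (183, ((21, 24, 20), (16, 20, 0), (3, 9, 14))),
    (185, ((14, 21, 3), (16, 21, 3), (0, 11, 20))),
    (187, ((16, 9, 2), (0, 19, 5), (14, 9, 2))),
    (188, ((24, 18, 12), (1, 3, 1), (17, 13, 9))),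
    (190, ((6, 12, 18), (13, 17, 21), (4, 2, 4))),
    (204, ((7, 8, 15), (10, 22, 23), (8, 8, 8))),
    (205, ((16, 0, 5), (2, 16, 9), (9, 5, 24))),
    (206, ((14, 0, 20), (21, 20, 6), (3, 14, 21))),
    (207, ((23, 22, 10), (22, 22, 22), (15, 8, 7))),
    (212, ((9, 19, 21), (9, 11, 21), (11, 0, 11))),
    (213, ((4, 21, 18), (13, 18, 3), (6, 4, 13))),
    (214, ((1, 9, 12), (24, 1, 17), (17, 12, 2))),
    (215, ((21, 11, 9), (19, 0, 19), (21, 19, 9))),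
    (225, ((8, 22, 8), (10, 8, 23), (7, 22, 15))),
    (226, ((22, 8, 22), (23, 8, 10), (15, 22, 7))),
    (229, ((11, 0, 19), (24, 14, 24), (2, 20, 2))),
    (230, ((19, 0, 11), (3, 5, 3), (6, 16, 6))),
    (233, ((2, 24, 19), (9, 2, 14), (14, 19, 0))),
    (234, ((3, 6, 11), (16, 11, 0), (21, 3, 16))),
    (236, ((16, 6, 24), (5, 3, 2), (0, 11, 11))),
    (239, ((14, 24, 6), (0, 19, 19), (20, 2, 3))),
    (241, ((19, 3, 6), (5, 6, 21), (0, 19, 5))),
    (242, ((11, 2, 24), (0, 11, 20), (20, 24, 9))),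
    (244, ((3, 2, 20), (6, 24, 14), (11, 11, 0))),
    (247, ((2, 3, 5), (19, 19, 0), (24, 6, 16))),
    (249, ((6, 11, 2), (6, 19, 2), (14, 0, 5))),
    (250, ((24, 19, 3), (16, 0, 20), (24, 11, 3))),
    (253, ((4, 9, 18), (21, 12, 4), (18, 1, 21))),
    (254, ((1, 21, 12), (12, 4, 9), (9, 18, 1))),
    (266, ((1, 4, 2), (4, 2, 4), (2, 4, 1))),
    (267, ((5, 5, 0), (24, 6, 16), (21, 9, 19))),
    (270, ((4, 1, 3), (3, 1, 4), (1, 3, 1))),
    (271, ((20, 20, 0), (9, 21, 11), (6, 24, 14))),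
    (273, ((1, 0, 0), (0, 1, 0), (0, 0, 1))),
    (275, ((0, 5, 5), (20, 2, 3), (20, 3, 2))),
    (277, ((4, 0, 0), (0, 0, 4), (0, 4, 0))),
    (279, ((0, 20, 20), (5, 2, 3), (5, 3, 2))),
    (281, ((3, 12, 17), (17, 3, 18), (12, 13, 3))),
    (282, ((20, 9, 6), (20, 21, 24), (0, 11, 14))),
    (285, ((2, 18, 13), (18, 17, 2), (13, 2, 12))),
    (286, ((5, 21, 24), (0, 19, 16), (5, 9, 6))),
    (298, ((4, 3, 1), (1, 1, 3), (3, 4, 1))),
    (299, ((5, 0, 5), (21, 19, 9), (24, 16, 6))),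
    (302, ((1, 2, 4), (2, 1, 4), (4, 4, 2))),
    (303, ((20, 0, 20), (6, 14, 24), (9, 11, 21))),
    (305, ((3, 1, 1), (1, 3, 4), (1, 4, 3))),
    (307, ((15, 15, 15), (15, 8, 7), (15, 7, 8))),
    (309, ((2, 4, 4), (4, 1, 2), (4, 2, 1))),
    (311, ((10, 10, 10), (10, 23, 22), (10, 22, 23))),
    (313, ((3, 17, 12), (12, 3, 13), (17, 18, 3))),
    (314, ((5, 24, 21), (5, 6, 9), (0, 16, 19))),
    (317, ((2, 13, 18), (13, 12, 2), (18, 2, 17))),
    (318, ((20, 6, 9), (0, 14, 11), (20, 24, 21))),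
    (330, ((11, 14, 0), (3, 9, 14), (24, 3, 11))),
    (331, ((13, 12, 3), (9, 18, 1), (13, 24, 4))),
    (334, ((17, 18, 2), (17, 6, 1), (21, 12, 4))),
    (335, ((19, 16, 0), (6, 2, 19), (2, 21, 16))),
    (337, ((1, 6, 13), (21, 1, 12), (18, 17, 2))),
    (339, ((24, 16, 24), (6, 16, 6), (14, 0, 16))),
    (340, ((4, 24, 17), (12, 13, 3), (9, 4, 18))),
    (342, ((6, 14, 6), (16, 0, 14), (24, 14, 24))),
    (345, ((0, 12, 0), (17, 0, 0), (0, 0, 4))),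
    (346, ((11, 0, 20), (9, 16, 2), (21, 16, 3))),
    (348, ((0, 18, 0), (0, 0, 1), (13, 0, 0))),
    (351, ((19, 0, 5), (9, 14, 2), (21, 14, 3))),
    (354, ((0, 14, 20), (16, 3, 21), (20, 9, 24))),
    (355, ((21, 18, 4), (17, 12, 2), (13, 6, 4))),
    (358, ((9, 12, 1), (17, 24, 1), (13, 18, 3))),
    (359, ((0, 16, 5), (5, 21, 6), (14, 2, 9))),
    (369, ((17, 6, 4), (21, 12, 1), (13, 12, 2))),
    (370, ((8, 7, 10), (7, 7, 23), (15, 7, 22))),
    (372, ((13, 24, 1), (17, 18, 3), (9, 18, 4))),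
    (375, ((22, 23, 15), (10, 23, 8), (23, 23, 7))),
    (377, ((12, 6, 18), (21, 17, 17), (4, 1, 2))),
    (379, ((2, 14, 9), (3, 14, 21), (20, 0, 11))),
    (380, ((18, 24, 12), (1, 4, 3), (9, 13, 13))),
    (382, ((3, 16, 21), (5, 0, 19), (2, 16, 9))),
    (394, ((16, 3, 9), (19, 24, 3), (0, 19, 16))),
    (395, ((21, 19, 21), (2, 20, 2), (16, 0, 14))),
    (396, ((14, 2, 21), (0, 11, 14), (11, 6, 2))),
    (397, ((9, 11, 9), (14, 0, 16), (3, 5, 3))),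
    (401, ((2, 12, 13), (17, 1, 6), (18, 21, 1))),
    (403, ((2, 13, 12), (18, 1, 21), (17, 6, 1))),
    (405, ((3, 17, 18), (13, 24, 4), (12, 4, 9))),
    (407, ((3, 18, 17), (12, 9, 4), (13, 4, 24))),
    (409, ((1, 24, 17), (17, 1, 24), (6, 13, 4))),
    (410, ((18, 24, 18), (17, 13, 9), (3, 1, 4))),
    (412, ((12, 6, 12), (2, 4, 1), (13, 17, 21))),
    (415, ((4, 6, 13), (24, 17, 1), (13, 4, 6))),
    (417, ((6, 3, 11), (5, 19, 0), (9, 24, 5))),
    (419, ((6, 11, 3), (9, 5, 24), (5, 0, 19))),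
    (421, ((24, 19, 2), (20, 0, 11), (21, 20, 6))),
    (423, ((24, 2, 19), (21, 6, 20), (20, 11, 0))),
    (425, ((21, 21, 19), (16, 14, 0), (2, 2, 20))),
    (426, ((14, 21, 2), (11, 2, 6), (0, 14, 11))),
    (428, ((16, 9, 3), (0, 16, 19), (19, 3, 24))),
    (431, ((9, 9, 11), (3, 3, 5), (14, 16, 0))),
    (442, ((12, 12, 6), (13, 21, 17), (2, 1, 4))),
    (443, ((1, 17, 24), (6, 4, 13), (17, 24, 1))),
    (444, ((18, 18, 24), (3, 4, 1), (17, 9, 13))),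
    (445, ((4, 13, 6), (13, 6, 4), (24, 1, 17))),
    (458, ((2, 19, 24), (14, 0, 19), (9, 14, 2))),
    (459, ((16, 24, 6), (0, 11, 11), (5, 2, 3))),
    (460, ((14, 6, 24), (20, 3, 2), (0, 19, 19))),
    (461, ((3, 11, 6), (21, 16, 3), (16, 0, 11))),
    (465, ((1, 12, 9), (17, 2, 12), (24, 17, 1))),
    (467, ((9, 21, 19), (11, 11, 0), (9, 21, 11))),
    (468, ((21, 9, 11), (21, 9, 19), (19, 19, 0))),
    (470, ((4, 18, 21), (6, 13, 4), (13, 3, 18))),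
    (473, ((1, 12, 21), (9, 1, 18), (12, 9, 4))),
    (474, ((6, 2, 11), (14, 5, 0), (6, 2, 19))),
    (477, ((24, 3, 19), (24, 3, 11), (16, 20, 0))),
    (478, ((4, 18, 9), (18, 21, 1), (21, 4, 12))),
    (481, ((19, 11, 0), (6, 6, 16), (3, 3, 5))),
    (482, ((8, 8, 22), (7, 15, 22), (10, 23, 8))),
    (485, ((22, 22, 8), (15, 7, 22), (23, 10, 8))),
    (486, ((11, 19, 0), (2, 2, 20), (24, 24, 14))),
    (489, ((14, 20, 0), (3, 21, 14), (21, 6, 20))),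
    (491, ((7, 15, 8), (8, 8, 8), (10, 23, 22))),
    (492, ((23, 10, 22), (15, 7, 8), (22, 22, 22))),
    (494, ((16, 5, 0), (9, 24, 5), (2, 9, 16))),
    (498, ((19, 6, 3), (0, 5, 19), (5, 21, 6))),
    (499, ((3, 20, 2), (11, 0, 11), (6, 14, 24))),
    (500, ((2, 5, 3), (24, 16, 6), (19, 0, 19))),
    (501, ((11, 24, 2), (20, 9, 24), (0, 20, 11)))]

theorem ov_ok : allOk 5 ptsA [uC, tC, aC] ovCert = true := by decide +kernel

end CfsgLib.Perm.Trans.ThreeRes.Socle
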