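import Cfsg.Agent.Lib.Perm.Trans.ThreeRes.Socle.Galois
import Cfsg.Agent.Lib.Perm.Trans.ThreeRes.Socle.Psl
import Cfsg.Agent.Lib.Perm.Small.Unique168
import Cfsg.Agent.Lib.Classical.SLBasic

/-!
# The socle `PSL(2, 7)`
-/

set_option autoImplicit false
set_option linter.all false

namespace CfsgLib.Perm.Trans.ThreeRes.Socle

open Matrix Cfsg.Geo

universe v

theorem card_sl_three_two : Fintype.card (Matrix.SpecialLinearGroup (Fin 3) (ZMod 2)) = 168 := by decide +kernel

theorem center_sl_three_two : ∀ a : Matrix.SpecialLinearGroup (Fin 3) (ZMod 2),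
    (∀ b : Matrix.SpecialLinearGroup (Fin 3) (ZMod 2), b * a = a * b) → a = 1 := by decide +kernel

theorem card_psl_three_two : Nat.card (Matrix.ProjectiveSpecialLinearGroup (Fin 3) (ZMod 2)) = 168 := by
  have hc : Subgroup.center (Matrix.SpecialLinearGroup (Fin 3) (ZMod 2)) = ⊥ :=
    (Subgroup.eq_bot_iff_forall _).2 fun a ha => center_sl_three_two a (Subgroup.mem_center_iff.1 ha)
  have h := Subgroup.card_eq_card_quotient_mul_card_subgroup (Subgroup.center (Matrix.SpecialLinearGroup (Fin 3) (ZMod 2)))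
  rw [hc, Subgroup.card_bot, mul_one, Nat.card_eq_fintype_card (α := Matrix.SpecialLinearGroup (Fin 3) (ZMod 2)),
    card_sl_three_two, ← hc] at h
  exact h.symm

variable {F : Type*} [Field F] [Fintype F] {P : Subgroup (GL (Fin 3) F)}

/-- Elements killed by a power of the characteristic have trace three. -/
theorem tr_of_pow_char_pow {p : ℕ} [Fact p.Prime] [CharP F p] (k : ℕ) {g : P} (hg : g ^ (p ^ k) = 1) : tr g = 3 := by
  have h : tr g ^ (p ^ k) = (3 : F) ^ (p ^ k) := by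
    rw [← tr_pow_char_pow, hg, tr_one]
    exact (map_natCast (iterateFrobenius F p k) 3).symm
  exact (iterateFrobenius F p k).injective (by simpa [iterateFrobenius_def] using h)

variable {K : Type v} [Field K] [Fintype K]

/-- the quotient of order 168 is the model `PSL(3, 2)` -/
theorem equiv_psl_three_two (hP : Quasi P) (h7 : Fintype.card K = 7)
    (e : (P ⧸ scal P) ≃* Matrix.ProjectiveSpecialLinearGroup (Fin 2) K) :
    Nat.card (P ⧸ scal P) = 168 ∧
      Nonempty ((P ⧸ scal P) ≃* Matrix.ProjectiveSpecialLinearGroup (Fin 3) (ZMod 2)) := by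
  classical
  haveI := hP.simple
  have hcard : Nat.card (P ⧸ scal P) = 168 := by
    have h := CfsgLib.Char.TwoChars.card_psl_odd (F := K) (by rw [h7]; decide)
    rw [← Nat.card_congr e.toEquiv, h7] at h
    omega
  refine ⟨hcard, ?_⟩
  haveI : IsSimpleGroup (Matrix.ProjectiveSpecialLinearGroup (Fin 3) (ZMod 2)) :=
    CfsgLib.Classical.psl_isSimple le_rfl
  obtain ⟨e₁⟩ := CfsgLib.Perm.Small.s168_equiv_model hcard
  obtain ⟨e₂⟩ := CfsgLib.Perm.Small.s168_equiv_model card_psl_three_two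
  exact ⟨e₁.trans e₂.symm⟩

variable {p : ℕ} [hp : Fact p.Prime] [CharP F p]

/-- With socle `PSL(2, 7)` Frobenius fixes or dualises the traces, according to `p` modulo seven. -/
theorem seven_traces (hP : Quasi P) (h7 : Fintype.card K = 7) (hp7 : p ≠ 7) (hbot : scal P = ⊥)
    (e : (P ⧸ scal P) ≃* Matrix.ProjectiveSpecialLinearGroup (Fin 2) K) :
    ((p % 7 = 1 ∨ p % 7 = 2 ∨ p % 7 = 4) ∧ ∀ g : P, tr g ^ p = tr g) ∨
      ((p % 7 = 3 ∨ p % 7 = 5 ∨ p % 7 = 6) ∧ ∀ g : P, tr g ^ p = tr g⁻¹) := by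
  classical
  haveI : Fact (Nat.Prime 7) := ⟨by norm_num⟩
  haveI := charP_of_card_eq_prime (R := K) (p := 7) h7
  let π : P →* Matrix.ProjectiveSpecialLinearGroup (Fin 2) K := e.toMonoidHom.comp (QuotientGroup.mk' (scal P))
  have hinj : Function.Injective π := by
    refine (MonoidHom.ker_eq_bot_iff π).1 (eq_bot_iff.2 fun g hg => ?_)
    rw [← hbot]
    exact (QuotientGroup.eq_one_iff g).1 (e.injective (hg.trans (map_one e).symm))
  let ψ := MulEquiv.ofBijective π ⟨hinj, e.surjective.comp (QuotientGroup.mk'_surjective _)⟩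
  have hconj : ∀ {g h : P}, (∃ y, y * π g * y⁻¹ = π h) → tr h = tr g := by
    rintro g h ⟨y, hy⟩
    obtain ⟨y', rfl⟩ := ψ.surjective y
    have : y' * g * y'⁻¹ = h := hinj (by rw [map_mul, map_mul, map_inv]; exact hy)
    rw [← this, tr_conj]
  have hsq : ∀ g : P, g ^ 7 = 1 → tr (g ^ 2) = tr g := fun g hg =>
    hconj (by rw [map_pow]; exact exists_conj_sq h7 (by rw [← map_pow, hg, map_one]))
  -- elements of order prime to seven
  have hreal : ∀ g : P, (g ^ 4 = 1 ∨ g ^ 3 = 1) → tr g⁻¹ = tr g ∧ tr g ^ p = tr g := by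
    intro g hg
    have hinv : tr g⁻¹ = tr g := by
      rcases psl_real (ℓ := 7) (by norm_num) (π g) with h | h
      · exact hconj (by rw [map_inv]; exact h)
      · have h' : g ^ 7 = 1 := hinj (by rw [map_pow, h, map_one])
        have h1 : g = 1 := by
          rcases hg with hg | hg
          · calc g = (g ^ 4) ^ 2 * (g ^ 7)⁻¹ := by group
              _ = 1 := by rw [hg, h', one_pow, inv_one, mul_one]
          · calc g = (g ^ 3) ^ 5 * ((g ^ 7) ^ 2)⁻¹ := by group
              _ = 1 := by rw [hg, h', one_pow, one_pow, inv_one, mul_one]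
        rw [h1, inv_one]
    refine ⟨hinv, ?_⟩
    rw [← tr_pow_char]
    have hp' := hp.out
    rcases hg with hg | hg
    · by_cases h2 : p = 2
      · subst h2
        rw [tr_of_pow_char_pow (p := 2) 2 (g := g ^ 2) (by rw [← pow_mul, mul_comm, pow_mul]; norm_num [hg]),
          tr_of_pow_char_pow (p := 2) 2 (g := g) hg]
      · have := hp'.eq_two_or_odd.resolve_left h2
        rw [pow_eq_pow_mod p hg]
        rcases (show p % 4 = 1 ∨ p % 4 = 3 by omega) with h | h <;> rw [h]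
        · rw [pow_one]
        · rw [show g ^ 3 = g⁻¹ from eq_inv_of_mul_eq_one_left (by rw [← pow_succ, hg]), hinv]
    · by_cases h3 : p = 3
      · subst h3
        rw [hg, tr_one, tr_of_pow_char (p := 3) hg]
      · have : ¬ 3 ∣ p := fun h => h3 ((Nat.prime_dvd_prime_iff_eq Nat.prime_three hp').1 h).symm
        rw [pow_eq_pow_mod p hg]
        rcases (show p % 3 = 1 ∨ p % 3 = 2 by omega) with h | h <;> rw [h]
        · rw [pow_one]
        · rw [show g ^ 2 = g⁻¹ from eq_inv_of_mul_eq_one_left (by rw [← pow_succ, hg]), hinv]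
  have hcases : ∀ g : P, (g ^ 4 = 1 ∨ g ^ 3 = 1) ∨ g ^ 7 = 1 := fun g => by
    rcases pow_cases_seven h7 (π g) with h | h | h
    · exact Or.inr (hinj (by rw [map_pow, h, map_one]))
    · exact Or.inl (Or.inl (hinj (by rw [map_pow, h, map_one])))
    · exact Or.inl (Or.inr (hinj (by rw [map_pow, h, map_one])))
  have hmod : ∀ g : P, g ^ 7 = 1 → tr g ^ p = tr (g ^ (p % 7)) := fun g hg => by
    rw [← tr_pow_char, ← pow_eq_pow_mod p hg]
  have hfour : ∀ g : P, g ^ 7 = 1 → tr (g ^ 4) = tr g := fun g hg => by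
    rw [show g ^ 4 = (g ^ 2) ^ 2 by rw [← pow_mul], hsq _ (by rw [← pow_mul, mul_comm, pow_mul, hg, one_pow]), hsq g hg]
  have h07 : p % 7 ≠ 0 := fun h => hp7 ((Nat.prime_dvd_prime_iff_eq (by norm_num) hp.out).1 (Nat.dvd_of_mod_eq_zero h)).symm
  by_cases hm : p % 7 = 1 ∨ p % 7 = 2 ∨ p % 7 = 4
  · refine Or.inl ⟨hm, fun g => ?_⟩
    rcases hcases g with hg | hg
    · exact (hreal g hg).2
    · rw [hmod g hg]
      rcases hm with h | h | h <;> rw [h]
      · rw [pow_one]
      · exact hsq g hg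
      · exact hfour g hg
  · have hm' : p % 7 = 3 ∨ p % 7 = 5 ∨ p % 7 = 6 := by omega
    refine Or.inr ⟨hm', fun g => ?_⟩
    rcases hcases g with hg | hg
    · rw [(hreal g hg).2, (hreal g hg).1]
    · rw [hmod g hg]
      have hi : g⁻¹ ^ 7 = 1 := by rw [inv_pow, hg, inv_one]
      rcases hm' with h | h | h <;> rw [h]
      · rw [show g ^ 3 = g⁻¹ ^ 4 by rw [inv_pow]; exact eq_inv_of_mul_eq_one_left (by rw [← pow_add, hg]), hfour _ hi]
      · rw [show g ^ 5 = g⁻¹ ^ 2 by rw [inv_pow]; exact eq_inv_of_mul_eq_one_left (by rw [← pow_add, hg]), hsq _ hi]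
      · rw [show g ^ 6 = g⁻¹ from eq_inv_of_mul_eq_one_left (by rw [← pow_succ, hg])]

/-- socle `PSL(2, 7)`, linear case -/
theorem seven_linear (hP : Quasi P) (hsub : NoSubfield P) (hQ : ¬ FixesQuad P) (hU : ¬ FixesHerm P)
    (hne : P ≠ specialLinear (Fin 3) F) (h7 : Fintype.card K = 7) (hp7 : p ≠ 7) (hbot : scal P = ⊥)
    (e : (P ⧸ scal P) ≃* Matrix.ProjectiveSpecialLinearGroup (Fin 2) K) :
    Nonempty ((P ⧸ scal P) ≃* Matrix.ProjectiveSpecialLinearGroup (Fin 3) (ZMod 2)) ∧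
      Fintype.card F = p ∧ p ≠ 2 ∧ (p % 7 = 1 ∨ p % 7 = 2 ∨ p % 7 = 4) := by
  classical
  obtain ⟨hcard, hiso⟩ := equiv_psl_three_two hP h7 e
  rcases seven_traces (p := p) hP h7 hp7 hbot e with ⟨hm, h⟩ | ⟨-, h⟩
  · have hF := card_eq_prime (p := p) hP hsub h
    refine ⟨hiso, hF, fun h2 => hne (Subgroup.eq_of_le_of_card_ge hP.le_sl ?_), hm⟩
    have hP168 : Nat.card P = 168 := by
      rw [Subgroup.card_eq_card_quotient_mul_card_subgroup (scal P), hcard, hbot, Subgroup.card_bot, mul_one]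
    rw [hP168]
    refine (Subgroup.card_le_card_group _).trans (le_of_eq ?_)
    rw [Matrix.card_GL_field, hF, h2]
    rfl
  · exact absurd (fixesHerm_of_frobenius (p := p) hP hsub hQ h) hU

/-- socle `PSL(2, 7)`, unitary case -/
theorem seven_unitary (q : ℕ) (hF : Fintype.card F = q ^ 2) (hq : 3 ≤ q) (hP : Quasi P) (hsub : NoSubfield P)
    (hQ : ¬ FixesQuad P) (h7 : Fintype.card K = 7) (hp7 : p ≠ 7) (hbot : scal P = ⊥)
    (e : (P ⧸ scal P) ≃* Matrix.ProjectiveSpecialLinearGroup (Fin 2) K) :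
    q.Prime ∧ Nonempty ((P ⧸ scal P) ≃* Matrix.ProjectiveSpecialLinearGroup (Fin 3) (ZMod 2)) ∧
      (q % 7 = 3 ∨ q % 7 = 5 ∨ q % 7 = 6) := by
  rcases seven_traces (p := p) hP h7 hp7 hbot e with ⟨-, h⟩ | ⟨hm, h⟩
  · exact (q_absurd (p := p) (by omega) hF (card_eq_prime (p := p) hP hsub h)).elim
  · obtain rfl := q_eq_char (p := p) hF (card_eq_sq (p := p) hP hsub hQ h)
    exact ⟨hp.out, (equiv_psl_three_two hP h7 e).2, hm⟩

end CfsgLib.Perm.Trans.ThreeRes.Socle
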