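import Cfsg.Agent.Lib.Perm.Trans.ThreeRes.Socle.OverData
import Cfsg.Agent.Lib.Perm.Trans.ThreeRes.Socle.Seven

/-!
# The model `SL(3, 2)` and its unitary representations in characteristic five
-/

set_option autoImplicit false
set_option linter.all false

namespace CfsgLib.Perm.Trans.ThreeRes.Socle

open scoped Matrix
open Matrix Cfsg.Geo CfsgLib.Perm.Asch.U3

abbrev S0 := Matrix.SpecialLinearGroup (Fin 3) (ZMod 2)

/-- an element of order seven -/
def u0 : S0 := ⟨!![0, 0, 1; 1, 0, 1; 0, 1, 0], by decide +kernel⟩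

/-- an involution -/
def t0 : S0 := ⟨!![0, 0, 1; 1, 1, 1; 1, 0, 0], by decide +kernel⟩

/-- an element squaring `u0` by conjugation -/
def w0 : S0 := ⟨!![0, 0, 1; 0, 1, 0; 1, 1, 1], by decide +kernel⟩

/-- the code of an element -/
def enc (g : S0) : ℕ :=
  (g.1 0 0).val + 2 * (g.1 0 1).val + 4 * (g.1 0 2).val + 8 * (g.1 1 0).val + 16 * (g.1 1 1).val +
    32 * (g.1 1 2).val + 64 * (g.1 2 0).val + 128 * (g.1 2 1).val + 256 * (g.1 2 2).val

/-- the coded matrix of an element -/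
def lk (g : S0) : CfsgLib.Perm.Asch.U3.M3 :=
  (((tabC.find? fun x => Nat.beq x.1 (enc g))).map Prod.snd).getD one3

set_option synthInstance.maxSize 4000 in
theorem lk_step : ∀ g : S0, mm 5 2 (lk g) uC = lk (g * u0) ∧ mm 5 2 (lk g) tC = lk (g * t0) ∧
    isSU 5 2 (lk g) = true := by decide +kernel

set_option synthInstance.maxSize 4000 in
theorem lk_facts : lk 1 = one3 ∧ lk u0 = uC ∧ lk t0 = tC ∧ ent uC 0 0 = 0 ∧
    ga 5 (ga 5 (ent uC 0 0) (ent uC 1 1)) (ent uC 2 2) = 7 ∧ (∀ a, a = lk u0 → a ≠ one3) := by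
  refine ⟨by decide +kernel, by decide +kernel, by decide +kernel, by decide +kernel, by decide +kernel, ?_⟩
  rintro a rfl
  decide +kernel

set_option synthInstance.maxSize 4000 in
theorem aC_moves : ∀ g : S0, mm 5 2 aC uC ≠ mm 5 2 (lk g) aC := by decide +kernel

theorem s0_facts : u0 ^ 7 = 1 ∧ u0 ≠ 1 ∧ (u0 * t0) ^ 3 = 1 ∧ u0 * t0 ≠ 1 ∧ t0 * t0 = 1 ∧ t0 ≠ 1 ∧
    (u0 * t0 * (u0⁻¹ * t0)) ^ 4 = 1 ∧ (u0 * t0 * (u0⁻¹ * t0)) ^ 2 ≠ 1 ∧ w0 * u0 * w0⁻¹ = u0 ^ 2 := by decide +kernel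

theorem pow_cases_s0 : ∀ g : S0, g ^ 2 = 1 ∨ g ^ 3 = 1 ∨ g ^ 4 = 1 ∨ g ^ 7 = 1 := by decide +kernel

theorem inv_class : ∀ t : S0, t * t = 1 → t ≠ 1 → (u0 * t) ^ 3 = 1 →
    ∃ k : Fin 7, t = u0 ^ (k : ℕ) * t0 * (u0 ^ (k : ℕ))⁻¹ := by decide +kernel

theorem card_s0 : Nat.card S0 = 168 := by rw [Nat.card_eq_fintype_card]; exact card_sl_three_two

theorem simple_s0 : IsSimpleGroup S0 := by
  have hc : Subgroup.center S0 = ⊥ :=
    (Subgroup.eq_bot_iff_forall _).2 fun a ha => center_sl_three_two a (Subgroup.mem_center_iff.1 ha)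
  haveI : IsSimpleGroup (Matrix.ProjectiveSpecialLinearGroup (Fin 3) (ZMod 2)) :=
    CfsgLib.Classical.psl_isSimple le_rfl
  exact ((QuotientGroup.quotientMulEquivOfEq hc).trans QuotientGroup.quotientBot).symm.isSimpleGroup

theorem eq_top_of_gen {K : Subgroup S0} (hu : u0 ∈ K) (ht : t0 ∈ K) : K = ⊤ := by
  obtain ⟨h7, h7', h3, h3', -, -, h4, h4', -⟩ := s0_facts
  haveI := simple_s0
  haveI : Fact (Nat.Prime 7) := ⟨by norm_num⟩
  haveI : Fact (Nat.Prime 3) := ⟨Nat.prime_three⟩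
  haveI : Fact (Nat.Prime 2) := ⟨Nat.prime_two⟩
  have d : ∀ {x : S0}, x ∈ K → orderOf x ∣ Nat.card K := fun {x} hx =>
    Subgroup.orderOf_mk x hx ▸ orderOf_dvd_natCard _
  have d7 : 7 ∣ Nat.card K := by have h := d hu; rwa [orderOf_eq_prime h7 h7'] at h
  have d3 : 3 ∣ Nat.card K := by have h := d (mul_mem hu ht); rwa [orderOf_eq_prime h3 h3'] at h
  have d4 : 4 ∣ Nat.card K := by
    have h := d (mul_mem (mul_mem hu ht) (mul_mem (inv_mem hu) ht))
    rwa [orderOf_eq_prime_pow (p := 2) (n := 1) h4' h4] at h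
  have h84 : 84 ∣ Nat.card K :=
    Nat.Coprime.mul_dvd_of_dvd_of_dvd (m := 7 * 3) (n := 4) (by norm_num)
      (Nat.Coprime.mul_dvd_of_dvd_of_dvd (by norm_num) d7 d3) d4
  have hmul := K.card_mul_index
  rw [card_s0] at hmul
  obtain ⟨c, hc⟩ := h84
  rw [hc, mul_assoc] at hmul
  have h2 : c * K.index = 2 := by omega
  rcases (Nat.dvd_prime Nat.prime_two).1 ⟨_, h2.symm⟩ with rfl | rfl
  · haveI : K.Normal := Subgroup.normal_of_index_eq_two (by omega)
    refine (IsSimpleGroup.eq_bot_or_eq_top_of_normal K inferInstance).resolve_left fun h => h7' ?_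
    rw [h, Subgroup.mem_bot] at hu
    exact hu
  · exact Subgroup.eq_top_of_card_eq K (by rw [hc, card_s0])

/-- elements of order seven are conjugate to powers of `u0` -/
theorem exists_conj_u0 {g : S0} (hg : g ^ 7 = 1) : ∃ (y : S0) (k : ℕ), k < 7 ∧ y * g * y⁻¹ = u0 ^ k := by
  obtain ⟨h7, h7', -⟩ := s0_facts
  haveI : Fact (Nat.Prime 7) := ⟨by norm_num⟩
  have hcard : Nat.card (Subgroup.zpowers u0) = 7 ^ (Nat.card S0).factorization 7 := by
    rw [Nat.card_zpowers, orderOf_eq_prime h7 h7', card_s0,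
      show (168 : ℕ) = 7 ^ 1 * 24 from rfl, Nat.factorization_mul (by norm_num) (by norm_num)]
    simp [Nat.factorization_eq_zero_of_not_dvd (show ¬ 7 ∣ 24 by norm_num), Nat.Prime.factorization_self (show Nat.Prime 7 by norm_num)]
  let U : Sylow 7 S0 := Sylow.ofCard (Subgroup.zpowers u0) hcard
  have hp : IsPGroup 7 (Subgroup.zpowers g) := by
    rintro ⟨_, i, rfl⟩
    refine ⟨1, Subtype.ext ?_⟩
    show (g ^ i) ^ (7 ^ 1) = 1
    rw [pow_one, ← zpow_natCast (g ^ i), ← _root_.zpow_mul, mul_comm, _root_.zpow_mul, zpow_natCast, hg, _root_.one_zpow]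
  obtain ⟨T, hT⟩ := hp.exists_le_sylow
  obtain ⟨y, hy⟩ := MulAction.exists_smul_eq S0 U T
  have hm := hT (Subgroup.mem_zpowers g)
  rw [← hy, Sylow.coe_subgroup_smul] at hm
  obtain ⟨x, hx, hx'⟩ := hm
  have hx'' : y * x * y⁻¹ = g := hx'
  have hx2 : x ∈ Subgroup.zpowers u0 := hx
  rw [(isOfFinOrder_of_finite u0).mem_zpowers_iff_mem_range_orderOf, orderOf_eq_prime h7 h7'] at hx2
  obtain ⟨k, hk, rfl⟩ := Finset.mem_image.1 hx2
  exact ⟨y⁻¹, k, Finset.mem_range.1 hk, by rw [← hx'']; group⟩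

variable {F : Type*} [Field F]

local notation "Mat3" => Matrix (Fin 3) (Fin 3) F

theorem trace_mul_self (A : Mat3) : (A * A).trace = A.trace * A.trace - 2 * A.adjugate.trace := by
  rw [Matrix.adjugate_fin_three, Matrix.trace_fin_three, Matrix.trace_fin_three, Matrix.trace_fin_three]
  simp [Matrix.mul_apply, Fin.sum_univ_three]
  ring

theorem cube_eq (A : Mat3) :
    A * (A * A) = A.trace • (A * A) - A.adjugate.trace • A + A.det • (1 : Mat3) := by
  rw [Matrix.adjugate_fin_three, Matrix.trace_fin_three, Matrix.trace_fin_three, Matrix.det_fin_three]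
  ext i j
  fin_cases i <;> fin_cases j <;> simp [Matrix.mul_apply, Fin.sum_univ_three] <;> ring

variable [Fintype F] [CharP F 5] {r : S0 →* GL (Fin 3) F}

/-- a faithful special unitary representation -/
structure URep (r : S0 →* GL (Fin 3) F) : Prop where
  inj : Function.Injective r
  det : ∀ g, (r g : Mat3).det = 1
  inv : ∀ g, ((r g⁻¹ : GL (Fin 3) F) : Mat3).trace = (r g : Mat3).trace ^ 5

namespace URep

variable (hr : URep r)
include hr

theorem trace_conj (y g : S0) : (r (y * g * y⁻¹) : Mat3).trace = (r g : Mat3).trace := by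
  rw [map_mul, map_mul, Units.val_mul, Units.val_mul, Matrix.trace_mul_comm, ← Matrix.mul_assoc,
    ← Units.val_mul (r y⁻¹), ← map_mul, inv_mul_cancel, map_one, Units.val_one, Matrix.one_mul]

theorem adj_eq (g : S0) : (r g : Mat3).adjugate = (r g⁻¹ : Mat3) := by
  have h1 : (r g : Mat3) * (r g : Mat3).adjugate = 1 := by rw [Matrix.mul_adjugate, hr.det, one_smul]
  calc (r g : Mat3).adjugate = ((r g⁻¹ : Mat3) * (r g : Mat3)) * (r g : Mat3).adjugate := by
        rw [← Units.val_mul, ← map_mul, inv_mul_cancel, map_one, Units.val_one, one_mul]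
    _ = _ := by rw [mul_assoc, h1, mul_one]

theorem trace_sq (g : S0) :
    (r (g ^ 2) : Mat3).trace = (r g : Mat3).trace ^ 2 - 2 * (r g : Mat3).trace ^ 5 := by
  rw [pow_two g, map_mul, Units.val_mul, trace_mul_self, hr.adj_eq, hr.inv, pow_two]

theorem cube (g : S0) : (r g : Mat3) * ((r g : Mat3) * (r g : Mat3)) =
    (r g : Mat3).trace • ((r g : Mat3) * (r g : Mat3)) - (r g : Mat3).trace ^ 5 • (r g : Mat3) + 1 := by
  conv_lhs => rw [cube_eq]
  rw [hr.adj_eq, hr.inv, hr.det, one_smul]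

theorem eq_one_of_three {g : S0} {n : ℕ} (hn : Nat.gcd 5 n = 1) (hg : g ^ n = 1)
    (ht : (r g : Mat3).trace = 3) : g = 1 := by
  haveI : Fact (Nat.Prime 5) := ⟨by norm_num⟩
  have h5 : (5 : F) = 0 := by exact_mod_cast CharP.cast_eq_zero F 5
  have hc := hr.cube g
  rw [ht, show (3 : F) ^ 5 = 3 by linear_combination (48 : F) * h5] at hc
  obtain ⟨N, hN'⟩ : ∃ N, (r g : Mat3) = 1 + N := ⟨(r g : Mat3) - 1, (add_sub_cancel _ _).symm⟩
  rw [hN'] at hc
  have hN : N ^ 3 = 0 := by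
    have h : (1 + N) * ((1 + N) * (1 + N)) - ((3 : F) • ((1 + N) * (1 + N)) - (3 : F) • (1 + N) + 1) = 0 :=
      sub_eq_zero.2 hc
    rw [← h, pow_succ, pow_two]
    simp only [mul_add, add_mul, one_mul, mul_one, mul_assoc]
    module
  have hg5 : g ^ 5 = 1 := hr.inj (Units.ext (by
    rw [map_pow, Units.val_pow_eq_pow_val, hN', map_one, Units.val_one,
      add_pow_char_of_commute (p := 5) (h := Commute.one_left N), one_pow, show (5 : ℕ) = 3 + 2 from rfl, pow_add, hN,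
      zero_mul, add_zero]))
  have h := pow_gcd_eq_one.2 ⟨hg5, hg⟩
  rwa [hn, pow_one] at h

theorem trace_two {g : S0} (hg : g ^ 2 = 1) (hne : g ≠ 1) : (r g : Mat3).trace = -1 := by
  have h2 := hr.trace_sq g
  have hi : (r g⁻¹ : Mat3).trace = (r g : Mat3).trace := by
    rw [show g⁻¹ = g from inv_eq_of_mul_eq_one_right (by rw [← pow_two, hg])]
  rw [hr.inv] at hi
  rw [hg, map_one, Units.val_one, Matrix.trace_one, Fintype.card_fin, hi] at h2
  push_cast at h2
  have h : ((r g : Mat3).trace - 3) * ((r g : Mat3).trace + 1) = 0 := by linear_combination -h2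
  rcases mul_eq_zero.1 h with h | h
  · exact absurd (hr.eq_one_of_three (n := 2) rfl hg (sub_eq_zero.1 h)) hne
  · linear_combination h

theorem trace_three {g : S0} (hg : g ^ 3 = 1) (hne : g ≠ 1) : (r g : Mat3).trace = 0 := by
  by_contra ht
  have hc := hr.cube g
  rw [← Units.val_mul, ← Units.val_mul, ← map_mul, ← map_mul, show g * (g * g) = g ^ 3 by rw [pow_succ', pow_two], hg,
    map_one, Units.val_one, right_eq_add, sub_eq_zero] at hc
  have h1 := congrArg (fun X => (r g⁻¹ : Mat3) * X) hc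
  simp only [Matrix.mul_smul, ← Units.val_mul, ← map_mul, inv_mul_cancel, inv_mul_cancel_left] at h1
  rw [map_one, Units.val_one] at h1
  have hsc : (r g : Mat3) = ((r g : Mat3).trace⁻¹ * (r g : Mat3).trace ^ 5) • (1 : Mat3) := by
    rw [← smul_smul, ← h1, smul_smul, inv_mul_cancel₀ ht, one_smul]
  refine hne (center_sl_three_two g fun b => hr.inj (Units.ext ?_))
  rw [map_mul, map_mul, Units.val_mul, Units.val_mul, hsc, Matrix.mul_smul, Matrix.smul_mul, Matrix.mul_one,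
    Matrix.one_mul]

theorem trace_four {g : S0} (hg : g ^ 4 = 1) (hne : g ^ 2 ≠ 1) : (r g : Mat3).trace = 1 := by
  haveI : Fact (Nat.Prime 5) := ⟨by norm_num⟩
  have h5' : (r g : Mat3).trace ^ 5 = (r g : Mat3).trace := by
    rw [← trace_pow_char, ← Units.val_pow_eq_pow_val, ← map_pow, pow_succ, hg, one_mul]
  have h2 := hr.trace_sq g
  rw [hr.trace_two (by rw [← pow_mul, hg]) hne, h5'] at h2
  have h : ((r g : Mat3).trace - 1) * ((r g : Mat3).trace - 1) = 0 := by linear_combination -h2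
  exact sub_eq_zero.1 (mul_self_eq_zero.1 h)

theorem trace_root : (r u0 : Mat3).trace ^ 2 + (r u0 : Mat3).trace + 2 = 0 ∧
    (r u0 : Mat3).trace ^ 5 = -1 - (r u0 : Mat3).trace := by
  obtain ⟨h7, h7', -, -, -, -, -, -, hw⟩ := s0_facts
  have e1 : (r u0 : Mat3).trace ^ 2 - 2 * (r u0 : Mat3).trace ^ 5 = (r u0 : Mat3).trace := by
    rw [← hr.trace_sq, ← hw, hr.trace_conj]
  have e2 : ((r u0 : Mat3).trace ^ 5) ^ 2 - 2 * ((r u0 : Mat3).trace ^ 5) ^ 5 = (r u0 : Mat3).trace ^ 5 := by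
    rw [← hr.inv, ← hr.trace_sq, inv_pow, ← hw, show (w0 * u0 * w0⁻¹)⁻¹ = w0 * u0⁻¹ * w0⁻¹ by group, hr.trace_conj]
  rw [← hr.inv u0, ← hr.inv u0⁻¹, inv_inv, hr.inv] at e2
  obtain ⟨t, ht⟩ : ∃ t, t = (r u0 : Mat3).trace := ⟨_, rfl⟩
  obtain ⟨s, hs⟩ : ∃ s, s = t ^ 5 := ⟨_, rfl⟩
  rw [← ht, ← hs] at e1 e2
  rw [← ht, ← hs]
  have h5 : (5 : F) = 0 := by exact_mod_cast CharP.cast_eq_zero F 5
  have hne : t ≠ s := by
    intro e
    rw [← e] at e1
    have h : t * (t - 3) = 0 := by linear_combination e1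
    rcases mul_eq_zero.1 h with h | h
    · have hc := hr.cube u0
      rw [← ht, h, zero_pow (by norm_num), zero_smul, zero_smul, sub_zero, zero_add, ← Units.val_mul,
        ← Units.val_mul, ← map_mul, ← map_mul] at hc
      have h3 : u0 ^ 3 = 1 := by
        refine hr.inj (Units.ext ?_)
        rw [map_one, Units.val_one, pow_succ', pow_two]
        exact hc
      have := pow_gcd_eq_one.2 ⟨h7, h3⟩
      rw [show Nat.gcd 7 3 = 1 from rfl, pow_one] at this
      exact h7' this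
    · exact h7' (hr.eq_one_of_three (n := 7) rfl h7 (by rw [← ht]; exact sub_eq_zero.1 h))
  have h : (t - s) * (t + s + 1) = 0 := by linear_combination e1 - e2
  have hts := (mul_eq_zero.1 h).resolve_left (sub_ne_zero.2 hne)
  exact ⟨by linear_combination e1 + 2 * hts, by linear_combination hts⟩

/-- representations agreeing at `u0` have the same traces -/
theorem trace_eq {r' : S0 →* GL (Fin 3) F} (hr' : URep r') (h : (r u0 : Mat3).trace = (r' u0 : Mat3).trace)
    (g : S0) : (r g : Mat3).trace = (r' g : Mat3).trace := by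
  obtain ⟨h7, -, -, -, -, -, -, -, hw⟩ := s0_facts
  rcases eq_or_ne g 1 with rfl | hne
  · rw [map_one, map_one]
  rcases pow_cases_s0 g with hg | hg | hg | hg
  · rw [hr.trace_two hg hne, hr'.trace_two hg hne]
  · rw [hr.trace_three hg hne, hr'.trace_three hg hne]
  · by_cases h2 : g ^ 2 = 1
    · rw [hr.trace_two h2 hne, hr'.trace_two h2 hne]
    · rw [hr.trace_four hg h2, hr'.trace_four hg h2]
  · obtain ⟨y, k, hk, hy⟩ := exists_conj_u0 hg
    rw [← hr.trace_conj y g, ← hr'.trace_conj y g, hy]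
    have two : ∀ x : S0, (∃ a, a * x * a⁻¹ = x ^ 2) → (r (x ^ 2) : Mat3).trace = (r x : Mat3).trace ∧
        (r' (x ^ 2) : Mat3).trace = (r' x : Mat3).trace := fun x ⟨a, ha⟩ => by
      rw [← ha, hr.trace_conj, hr'.trace_conj]; exact ⟨rfl, rfl⟩
    have hinv : (r u0⁻¹ : Mat3).trace = (r' u0⁻¹ : Mat3).trace := by rw [hr.inv, hr'.inv, h]
    have b2 := two u0 ⟨w0, hw⟩
    have b4 := two (u0 ^ 2) ⟨w0, by rw [← conj_pow, hw]⟩
    have c2 := two u0⁻¹ ⟨w0, by rw [inv_pow, ← hw]; group⟩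
    have hw' : w0 * u0⁻¹ * w0⁻¹ = u0⁻¹ ^ 2 := by rw [inv_pow, ← hw]; group
    have c4 := two (u0⁻¹ ^ 2) ⟨w0, by rw [← conj_pow, hw']⟩
    have e : ∀ a b : ℕ, a + b = 7 → u0 ^ a = u0⁻¹ ^ b := fun a b hab => by
      rw [inv_pow]; exact eq_inv_of_mul_eq_one_left (by rw [← pow_add, hab, h7])
    interval_cases k
    · rw [pow_zero, map_one, map_one]
    · rw [pow_one]; exact h
    · rw [b2.1, b2.2]; exact h
    · rw [e 3 4 rfl, show (4 : ℕ) = 2 * 2 from rfl, pow_mul, c4.1, c4.2, c2.1, c2.2]; exact hinv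
    · rw [show (4 : ℕ) = 2 * 2 from rfl, pow_mul, b4.1, b4.2, b2.1, b2.2]; exact h
    · rw [e 5 2 rfl, c2.1, c2.2]; exact hinv
    · rw [e 6 1 rfl, pow_one]; exact hinv

end URep

end CfsgLib.Perm.Trans.ThreeRes.Socle
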