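import Cfsg.Agent.Lib.Perm.Trans.ThreeRes.Socle.OverModel
import Cfsg.Agent.Lib.Perm.Trans.ThreeRes.Forms

/-!
# `PSL(2, 7)` is not maximal in `SU(3, 5)`
-/

set_option autoImplicit false
set_option linter.all false

namespace CfsgLib.Perm.Trans.ThreeRes.Socle

open scoped Matrix
open Matrix Cfsg.Geo CfsgLib.SU CfsgLib.Perm.Asch CfsgLib.Perm.Asch.U3

variable {F : Type*} [Field F] [Fintype F] {σ : F →+* F} {w : F}

local notation "Mat3" => Matrix (Fin 3) (Fin 3) F

theorem emM_inj' (X : Ctx σ 5 w) {A B A' B' : CfsgLib.Perm.Asch.U3.M3}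
    (h : emM 5 w (mm 5 2 A B) = emM 5 w (mm 5 2 A' B')) : mm 5 2 A B = mm 5 2 A' B' := by
  have e : ∀ i j, ent (mm 5 2 A B) i j = ent (mm 5 2 A' B') i j := fun i j => by
    refine X.M.emb_inj ?_ ?_ (by rw [← emM_apply, ← emM_apply, h]) <;>
      fin_cases i <;> fin_cases j <;> exact code_lt (by norm_num) _ _
  exact Prod.ext (Prod.ext (e 0 0) (Prod.ext (e 0 1) (e 0 2))) (Prod.ext (Prod.ext (e 1 0) (Prod.ext (e 1 1) (e 1 2)))
    (Prod.ext (e 2 0) (Prod.ext (e 2 1) (e 2 2))))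

/-- the conjugate choice of the generator -/
theorem ctx_neg (X : Ctx σ 5 w) : Ctx σ 5 (-w) :=
  ⟨X.hu, ⟨X.M.prime, X.M.char, by rw [neg_mul_neg]; exact X.M.sq, by rw [map_neg, X.M.bar], X.M.card, X.M.inj0, X.M.sub0⟩⟩

/-- the model representation -/
theorem exists_model_rep [CharP F 5] (hF : Fintype.card F = 5 ^ 2) (X : Ctx σ 5 w) :
    ∃ r : S0 →* GL (Fin 3) F, URep r ∧ (∀ g, r g ∈ stabS 5 w ptsA ⊓ suGL 3 F 5) ∧
      (∀ g, (r g : Mat3) = emM 5 w (lk g)) ∧ (r u0 : Mat3).trace = emb 5 w 7 := by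
  classical
  choose gl hgl hglU using fun g : S0 => X.M.exists_su X.hu.inv X.bar (lk_step g).2.2
  obtain ⟨l1, lu, lt, -, l7, lne⟩ := lk_facts
  have one : emM 5 w (lk 1) = (1 : Mat3) := by rw [l1, X.M.emM_one]
  let K : Subgroup S0 :=
    { carrier := {h | ∀ g, emM 5 w (lk g) * emM 5 w (lk h) = (emM 5 w (lk (g * h)) : Mat3)}
      one_mem' := fun g => by rw [one, mul_one, mul_one]
      mul_mem' := fun {a b} ha hb g => by rw [← mul_assoc, ← hb (g * a), ← ha g, ← hb a, mul_assoc]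
      inv_mem' := fun {h} hh g => by
        have h1 := hh (g * h⁻¹)
        have h2 := hh h⁻¹
        rw [inv_mul_cancel_right] at h1
        rw [inv_mul_cancel, one] at h2
        have h3 : emM 5 w (lk h) * emM 5 w (lk h⁻¹) = (1 : Mat3) := mul_eq_one_comm.1 h2
        rw [← h1, mul_assoc, h3, mul_one] }
  have hK : K = ⊤ := eq_top_of_gen
    (fun g => by rw [lu, ← X.M.emM_mm, (lk_step g).1])
    (fun g => by rw [lt, ← X.M.emM_mm, (lk_step g).2.1])
  let r : S0 →* GL (Fin 3) F :=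
    { toFun := gl
      map_one' := Units.ext (by rw [hgl, one, Units.val_one])
      map_mul' := fun a b => Units.ext (by
        rw [Units.val_mul, hgl, hgl, hgl]
        exact ((hK ▸ Subgroup.mem_top b : b ∈ K) a).symm) }
  have hr : ∀ g, (r g : Mat3) = emM 5 w (lk g) := hgl
  have hS : (stabS 5 w ptsA).comap r = ⊤ := by
    refine eq_top_of_gen ?_ ?_
    · exact X.mem_of_rep (X.rep_of_gen ov_ok (List.mem_cons_self ..)) (c := 1) (by rw [hr, lu, one_smul])
    · exact X.mem_of_rep (X.rep_of_gen ov_ok (List.mem_cons_of_mem _ (List.mem_cons_self ..))) (c := 1)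
        (by rw [hr, lt, one_smul])
  refine ⟨r, ⟨?_, fun g => ?_, fun g => ?_⟩, fun g => ⟨(hS ▸ Subgroup.mem_top g : g ∈ (stabS 5 w ptsA).comap r), hglU g⟩, hr, ?_⟩
  · haveI := simple_s0
    refine (MonoidHom.ker_eq_bot_iff r).1 ((IsSimpleGroup.eq_bot_or_eq_top_of_normal r.ker inferInstance).resolve_right fun h => ?_)
    have hu : r u0 = 1 := MonoidHom.mem_ker.1 (h ▸ Subgroup.mem_top u0)
    have h1 := congrArg (fun x : GL (Fin 3) F => (x : Mat3) 0 0) hu
    simp only [hr, lu, Units.val_one, Matrix.one_apply_eq, emM_apply] at h1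
    exact zero_ne_one (X.M.emb_zero.symm.trans h1)
  · exact CfsgLib.Perm.Trans.ThreeDim.det_one_of_mem (M := suGL 3 F 5) inf_le_right (hglU g)
  · rw [map_inv]
    exact trace_inv_of_mem_GU hF (hglU g).1
  · rw [hr, lu, Matrix.trace_fin_three, emM_apply, emM_apply, emM_apply, ← X.M.emb_ga, ← X.M.emb_ga, l7]

/-- an endomorphism of the model respecting the two classes of order seven is inner -/
theorem inner_of_trace [CharP F 5] {r : S0 →* GL (Fin 3) F} (hr : URep r) (α : S0 →* S0) (hα : Function.Injective α)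
    (h : (r (α u0) : Mat3).trace = (r u0 : Mat3).trace) : ∃ z : S0, ∀ x, α x = z * x * z⁻¹ := by
  obtain ⟨h7, h7', h3, -, ht, ht', -, -, hw⟩ := s0_facts
  obtain ⟨hroot, hpow⟩ := hr.trace_root
  obtain ⟨y, k, hk, hy⟩ := exists_conj_u0 (g := α u0) (by rw [← map_pow, h7, map_one])
  have hty : (r (u0 ^ k) : Mat3).trace = (r u0 : Mat3).trace := by rw [← hy, hr.trace_conj, h]
  have h5 : (5 : F) = 0 := by exact_mod_cast CharP.cast_eq_zero F 5
  have hne : (r u0 : Mat3).trace ^ 5 ≠ (r u0 : Mat3).trace := fun e => by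
    rw [hpow] at e
    exact one_ne_zero (α := F) (by
      linear_combination (12 : F) * hroot + (-3 * (-1 - 2 * (r u0 : Mat3).trace)) * e + (-4 : F) * h5)
  have hw' : w0 * u0⁻¹ * w0⁻¹ = u0⁻¹ ^ 2 := by rw [inv_pow, ← hw]; group
  have e7 : ∀ a b : ℕ, a + b = 7 → u0 ^ a = u0⁻¹ ^ b := fun a b hab => by
    rw [inv_pow]; exact eq_inv_of_mul_eq_one_left (by rw [← pow_add, hab, h7])
  -- conjugate to `u0`
  obtain ⟨y', hy'⟩ : ∃ y', y' * α u0 * y'⁻¹ = u0 := by
    interval_cases k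
    · refine absurd (hα (?_ : α u0 = α 1)) h7'
      rw [map_one]
      rw [pow_zero, mul_inv_eq_one, mul_eq_left] at hy
      exact hy
    · exact ⟨y, by rw [hy, pow_one]⟩
    · exact ⟨w0⁻¹ * y, by
        calc w0⁻¹ * y * α u0 * (w0⁻¹ * y)⁻¹ = w0⁻¹ * (y * α u0 * y⁻¹) * w0 := by group
          _ = u0 := by rw [hy, ← hw]; group⟩
    · refine absurd ?_ hne
      have h' := hty
      rw [e7 3 4 rfl, show (4 : ℕ) = 2 * 2 from rfl, pow_mul, ← hw', conj_pow, hr.trace_conj, ← hw',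
        hr.trace_conj, hr.inv] at h'
      exact h'
    · have h4 : w0⁻¹ * u0 ^ 4 * w0 = u0 ^ 2 := by
        rw [show u0 ^ 4 = w0 * u0 ^ 2 * w0⁻¹ by rw [← conj_pow, hw, ← pow_mul]]
        group
      exact ⟨w0⁻¹ * w0⁻¹ * y, by
        calc w0⁻¹ * w0⁻¹ * y * α u0 * (w0⁻¹ * w0⁻¹ * y)⁻¹ = w0⁻¹ * (w0⁻¹ * (y * α u0 * y⁻¹) * w0) * w0 := by
              simp [mul_assoc]
          _ = w0⁻¹ * u0 ^ 2 * w0 := by rw [hy, h4]
          _ = u0 := by rw [← hw]; group⟩
    · refine absurd ?_ hne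
      have h' := hty
      rw [e7 5 2 rfl, ← hw', hr.trace_conj, hr.inv] at h'
      exact h'
    · refine absurd ?_ hne
      have h' := hty
      rw [e7 6 1 rfl, pow_one, hr.inv] at h'
      exact h'
  let β : S0 →* S0 := (MulAut.conj y').toMonoidHom.comp α
  have hβu : β u0 = u0 := hy'
  have hβi : Function.Injective β := (MulAut.conj y').injective.comp hα
  obtain ⟨j, hj⟩ := inv_class (β t0) (by rw [← map_mul, ht, map_one])
    (fun e => ht' (hβi (e.trans (map_one β).symm))) (by rw [← hβu, ← map_mul, ← map_pow, h3, map_one])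
  have hγ : β = (MulAut.conj (u0 ^ (j : ℕ))).toMonoidHom := by
    have htop : β.eqLocus (MulAut.conj (u0 ^ (j : ℕ))).toMonoidHom = ⊤ := eq_top_of_gen
      (show β u0 = u0 ^ (j : ℕ) * u0 * (u0 ^ (j : ℕ))⁻¹ by rw [hβu, ← pow_succ, pow_succ', mul_inv_cancel_right])
      (show β t0 = u0 ^ (j : ℕ) * t0 * (u0 ^ (j : ℕ))⁻¹ from hj)
    exact MonoidHom.ext fun x => (htop ▸ Subgroup.mem_top x : x ∈ β.eqLocus _)
  refine ⟨y'⁻¹ * u0 ^ (j : ℕ), fun x => ?_⟩
  have hx : y' * α x * y'⁻¹ = u0 ^ (j : ℕ) * x * (u0 ^ (j : ℕ))⁻¹ := DFunLike.congr_fun hγ x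
  calc α x = y'⁻¹ * (y' * α x * y'⁻¹) * y' := by group
    _ = _ := by rw [hx]; group

theorem norm_codes : ∀ a < 25, gb 5 a = a → a ≠ 0 → ∃ μ < 25, gm 5 2 μ (gb 5 μ) = a := by decide +kernel

/-- `L(2, 7)` in `SU(3, 5)` is not maximal -/
theorem not_seven_five {H P : Subgroup (GL (Fin 3) F)} (hF : Fintype.card F = 5 ^ 2)
    (hH : IsMaximalIn (Cfsg.GU 3 F 5 ⊓ specialLinear (Fin 3) F) H) (hcore : IsResidualCore H P)
    (e : (P ⧸ (scalars (Fin 3) F).subgroupOf P) ≃* Matrix.ProjectiveSpecialLinearGroup (Fin 3) (ZMod 2)) : False := by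
  classical
  obtain ⟨σ, w₁, X₁⟩ := exists_ctx (F := F) hF (Or.inr rfl)
  haveI : Fact (Nat.Prime 5) := ⟨by norm_num⟩
  haveI : Fact (Nat.Prime 3) := ⟨Nat.prime_three⟩
  haveI : CharP F 5 := (CharP.charP_iff_prime_eq_zero (by norm_num)).2 X₁.M.char
  have hP := (Quasi.of_core hcore (hH.1.le.trans inf_le_right)).1
  have hPU : ∀ g ∈ P, g ∈ Cfsg.GU 3 F 5 := fun g hg => (hH.1.le (hcore.le hg)).1
  -- no scalars
  have hc168 : Nat.card (P ⧸ scal P) = 168 := (Nat.card_congr e.toEquiv).trans card_psl_three_two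
  have hbot : scal P = ⊥ := by
    obtain ⟨T⟩ : Nonempty (Sylow 3 P) := inferInstance
    refine scal_bot_of_abelian hP T fun a ha b hb => ?_
    let f := (QuotientGroup.mk' (scal P)).subgroupMap (T : Subgroup P)
    haveI : IsCyclic ((T : Subgroup P).map (QuotientGroup.mk' (scal P))) := by
      obtain ⟨n, hn⟩ := (T.2.map (QuotientGroup.mk' (scal P))).exists_card_eq
      have hd := Subgroup.card_subgroup_dvd_card ((T : Subgroup P).map (QuotientGroup.mk' (scal P)))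
      rw [hn, hc168] at hd
      rcases Nat.lt_or_ge n 2 with h | h
      · interval_cases n
        · haveI : Subsingleton ((T : Subgroup P).map (QuotientGroup.mk' (scal P))) :=
            (Nat.card_eq_one_iff_unique.1 (by rw [hn, pow_zero])).1
          infer_instance
        · exact isCyclic_of_prime_card (p := 3) (by rw [hn, pow_one])
      · exact absurd ((pow_dvd_pow 3 h).trans hd) (by norm_num)
    exact congrArg Subtype.val (commutative_of_cyclic_center_quotient f (fun x hx => Subgroup.mem_center_iff.2 fun y =>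
      Subtype.ext (scal_comm hP ((QuotientGroup.eq_one_iff _).1 (congrArg Subtype.val hx)) y)) ⟨a, ha⟩ ⟨b, hb⟩)
  -- the isomorphism with the model
  have hc : Subgroup.center S0 = ⊥ :=
    (Subgroup.eq_bot_iff_forall _).2 fun a ha => center_sl_three_two a (Subgroup.mem_center_iff.1 ha)
  obtain ⟨θ⟩ : Nonempty (S0 ≃* P) := ⟨((QuotientGroup.quotientMulEquivOfEq hbot).trans QuotientGroup.quotientBot).symm.trans e
    |>.trans ((QuotientGroup.quotientMulEquivOfEq hc).trans QuotientGroup.quotientBot) |>.symm⟩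
  let r1 : S0 →* GL (Fin 3) F := P.subtype.comp θ.toMonoidHom
  have hr1 : URep r1 := ⟨P.subtype_injective.comp θ.injective,
    fun g => CfsgLib.Perm.Trans.ThreeDim.det_one_of_mem hP.le_sl (θ g).2, fun g => by
      rw [map_inv]; exact trace_inv_of_mem_GU hF (hPU _ (θ g).2)⟩
  -- the choice of the generator of the field
  obtain ⟨w, X, hw⟩ : ∃ w, Ctx σ 5 w ∧ (r1 u0 : Mat3).trace = emb 5 w 7 := by
    obtain ⟨hroot, -⟩ := hr1.trace_root
    have h5 : (5 : F) = 0 := by exact_mod_cast CharP.cast_eq_zero F 5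
    have hemb : ∀ v : F, emb 5 v 7 = 2 + v := fun v => by simp [emb]
    have hsq : w₁ * w₁ = 2 := by simpa using X₁.M.sq
    have h : ((r1 u0 : Mat3).trace - (2 + w₁)) * ((r1 u0 : Mat3).trace - (2 - w₁)) = 0 := by
      linear_combination hroot - hsq - (r1 u0 : Mat3).trace * h5
    rcases mul_eq_zero.1 h with h | h
    · exact ⟨w₁, X₁, by rw [hemb]; linear_combination h⟩
    · exact ⟨-w₁, ctx_neg X₁, by rw [hemb]; linear_combination h⟩
  obtain ⟨r, hr, hrS, hrM, hrt⟩ := exists_model_rep hF X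
  have habs : ActsAbsolutelyIrreducibly (matrixSet r1.range) := by
    have : r1.range = P := by
      rw [MonoidHom.range_comp, MonoidHom.range_eq_top.2 θ.surjective, ← MonoidHom.range_eq_map, Subgroup.range_subtype]
    rw [this]; exact hP.absIrred
  obtain ⟨B, hB⟩ := conj_of_traces r1 r (fun x hx => by rw [hr1.inj (hx.trans (map_one r1).symm), map_one])
    habs (hr1.trace_eq hr (hw.trans hrt.symm))
  -- unitarity of the conjugation up to a scalar
  obtain ⟨G, hG⟩ : ∃ G : Mat3, G = (B : Mat3)ᵀ.map σ * (B : Mat3) := ⟨_, rfl⟩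
  have hfix : ∀ g ∈ P, G * (g : Mat3) = (g : Mat3) * G := by
    intro g hg
    obtain ⟨x, hx⟩ := θ.surjective ⟨g, hg⟩
    have e1 : r1 x = g := congrArg Subtype.val hx
    have hgg := X.mem_GU_iff.1 (hPU g hg)
    have hxx := (X.mem_GU_iff (g := r x)).1 (hrS x).2.1
    have hBg : (B : Mat3) * (g : Mat3) = (r x : Mat3) * (B : Mat3) := by
      rw [← Units.val_mul, ← Units.val_mul, ← hB x, e1, inv_mul_cancel_right]
    have h2 : (g : Mat3)ᵀ.map σ * G * (g : Mat3) = G := by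
      calc (g : Mat3)ᵀ.map σ * G * (g : Mat3)
          = ((B : Mat3) * (g : Mat3))ᵀ.map σ * ((B : Mat3) * (g : Mat3)) := by
            rw [hG, Matrix.transpose_mul, Matrix.map_mul]; simp only [mul_assoc]
        _ = (B : Mat3)ᵀ.map σ * ((r x : Mat3)ᵀ.map σ * (r x : Mat3)) * (B : Mat3) := by
            rw [hBg, Matrix.transpose_mul, Matrix.map_mul]; simp only [mul_assoc]
        _ = G := by rw [hxx, mul_one, hG]
    calc G * (g : Mat3) = ((g : Mat3) * (g : Mat3)ᵀ.map σ) * (G * (g : Mat3)) := by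
          rw [mul_eq_one_comm.1 hgg, one_mul]
      _ = (g : Mat3) * ((g : Mat3)ᵀ.map σ * G * (g : Mat3)) := by simp only [mul_assoc]
      _ = _ := by rw [h2]
  obtain ⟨lam, hlam⟩ := hP.absIrred.2 G (by rintro _ ⟨g, hg, rfl⟩; exact hfix g hg)
  have hB0 : (B : Mat3).det ≠ 0 := ((Matrix.isUnit_iff_isUnit_det _).1 B.isUnit).ne_zero
  have hl0 : lam ≠ 0 := by
    intro h0
    rw [h0, zero_smul] at hlam
    have h1 := congrArg Matrix.det (hG.symm.trans hlam)
    rw [Matrix.det_mul, Matrix.det_zero, mul_eq_zero, ← RingHom.mapMatrix_apply, ← RingHom.map_det,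
      Matrix.det_transpose] at h1
    rcases h1 with h1 | h1
    · exact hB0 (σ.injective (by rw [h1, map_zero]))
    · exact hB0 h1
  have hlσ : σ lam = lam := by
    have h1 : G.map σ = Gᵀ := by
      rw [hG, Matrix.map_mul, Matrix.transpose_mul, Matrix.map_map,
        show (σ : F → F) ∘ σ = id from funext X.hu.inv, Matrix.map_id, Matrix.transpose_map,
        Matrix.transpose_transpose]
    have h2 := congrFun (congrFun h1 0) 0
    simpa [hlam] using h2
  obtain ⟨μ, hμ0, hμ⟩ : ∃ μ : F, μ ≠ 0 ∧ μ * σ μ = lam := by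
    obtain ⟨a, ha, rfl⟩ := X.M.emb_surj lam
    rw [← X.M.emb_gb] at hlσ
    obtain ⟨m, -, hm'⟩ := norm_codes a ha (X.M.emb_inj (code_lt (by norm_num) _ _) ha hlσ)
      (fun h => hl0 (by rw [h, X.M.emb_zero]))
    refine ⟨emb 5 w m, fun h => hl0 ?_, ?_⟩
    · rw [← hm', X.M.emb_gm, h, zero_mul]
    · rw [← X.M.emb_gb, ← X.M.emb_gm, hm']
  obtain ⟨U, hU⟩ : ∃ U : GL (Fin 3) F, (U : Mat3) = μ⁻¹ • (B : Mat3) :=
    ⟨Matrix.GeneralLinearGroup.mkOfDetNeZero (μ⁻¹ • (B : Mat3)) (by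
      rw [Matrix.det_smul]; exact mul_ne_zero (pow_ne_zero _ (inv_ne_zero hμ0)) hB0), rfl⟩
  have hUU : U ∈ Cfsg.GU 3 F 5 := X.mem_GU_iff.2 (by
    rw [hU, Matrix.transpose_smul, show ((μ⁻¹ • (B : Mat3)ᵀ).map σ) = σ μ⁻¹ • (B : Mat3)ᵀ.map σ by ext i j; simp,
      Matrix.smul_mul, Matrix.mul_smul, ← hG, hlam, smul_smul, smul_smul, map_inv₀,
      show (σ μ)⁻¹ * μ⁻¹ * lam = 1 by rw [← _root_.mul_inv_rev, hμ, inv_mul_cancel₀ hl0], one_smul])
  have hUr : ∀ x, U * r1 x * U⁻¹ = r x := by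
    intro x
    rw [← hB x, mul_inv_eq_iff_eq_mul]
    refine Units.ext ?_
    have h1 : (B : Mat3) * (r1 x : Mat3) * ((B⁻¹ : GL (Fin 3) F) : Mat3) * (B : Mat3) = (B : Mat3) * (r1 x : Mat3) := by
      rw [mul_assoc, Units.inv_mul, mul_one]
    simp only [Units.val_mul, hU, Matrix.smul_mul, Matrix.mul_smul, h1]
  -- every element of `H` is a scalar times one of `P`
  have hdec : ∀ h ∈ H, ∃ z : S0, (r1 z)⁻¹ * h ∈ scalars (Fin 3) F := by
    intro h hh
    let γ : P →* P :=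
      { toFun := fun x => ⟨h * x * h⁻¹, hcore.normal h hh x x.2⟩
        map_one' := Subtype.ext (by simp)
        map_mul' := fun a b => Subtype.ext (by simp [mul_assoc]) }
    have hγ : Function.Injective γ := fun a b hab =>
      Subtype.ext (mul_left_cancel (mul_right_cancel (congrArg Subtype.val hab : h * (a : GL (Fin 3) F) * h⁻¹ = h * b * h⁻¹)))
    let α : S0 →* S0 := θ.symm.toMonoidHom.comp (γ.comp θ.toMonoidHom)
    have hα : ∀ x, r1 (α x) = h * r1 x * h⁻¹ := fun x => by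
      show ((θ (θ.symm (γ (θ x))) : P) : GL (Fin 3) F) = _
      rw [MulEquiv.apply_symm_apply]
      rfl
    obtain ⟨z, hz⟩ := inner_of_trace hr1 α (θ.symm.injective.comp (hγ.comp θ.injective)) (by
      rw [hα, Units.val_mul, Units.val_mul, Matrix.trace_mul_comm, ← Matrix.mul_assoc, ← Units.val_mul h⁻¹,
        inv_mul_cancel, Units.val_one, Matrix.one_mul])
    refine ⟨z, hcore.centralizer_scalar _ (H.mul_mem (H.inv_mem (hcore.le (θ z).2)) hh) fun x hx => ?_⟩
    obtain ⟨y, hy⟩ := θ.surjective ⟨x, hx⟩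
    have e1 : r1 y = x := congrArg Subtype.val hy
    have e2 := hα y
    rw [hz, map_mul, map_mul, map_inv, e1] at e2
    have e3 : (r1 z)⁻¹ * h * x * ((r1 z)⁻¹ * h)⁻¹ * x⁻¹ = 1 := by
      calc (r1 z)⁻¹ * h * x * ((r1 z)⁻¹ * h)⁻¹ * x⁻¹ = (r1 z)⁻¹ * (h * x * h⁻¹) * r1 z * x⁻¹ := by group
        _ = 1 := by rw [← e2]; group
    rw [e3]
    exact one_mem _
  -- conclusion
  have hUi : (U⁻¹)⁻¹ = U := inv_inv U
  refine X.not_maximal (u := U⁻¹) hH ((Cfsg.GU 3 F 5).inv_mem hUU) (fun h hh => ?_)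
    (X.rep_of_gen ov_ok (List.mem_cons_of_mem _ (List.mem_cons_of_mem _ (List.mem_cons_self ..))))
    (fun x hx _ hmem => ?_) outA_ok
  · obtain ⟨z, hz⟩ := hdec h hh
    obtain ⟨c, hc'⟩ := (mem_scalars_iff _).1 hz
    refine mem_of_smul (hrS z).1 (c := (c : F)) ?_
    rw [hUi, ← hUr z]
    have e4 : (h : Mat3) = (c : F) • (r1 z : Mat3) := by
      rw [show h = r1 z * ((r1 z)⁻¹ * h) by group, Units.val_mul, hc', Matrix.mul_smul, Matrix.mul_one]
    simp only [Units.val_mul, e4, Matrix.mul_smul, Matrix.smul_mul]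
  · rw [hUi] at hmem
    obtain ⟨z, hz⟩ := θ.surjective ⟨_, hcore.normal _ hmem _ (θ u0).2⟩
    have e1 : r1 z = U⁻¹ * x * U * r1 u0 * (U⁻¹ * x * U)⁻¹ := congrArg Subtype.val hz
    have e2 : r z * x = x * r u0 := by
      rw [← hUr z, ← hUr u0, e1]; group
    have e3 := congrArg (fun g : GL (Fin 3) F => (g : Mat3)) e2
    simp only [Units.val_mul, hx, hrM, lk_facts.2.1, ← X.M.emM_mm] at e3
    exact aC_moves z (emM_inj' X e3).symm

end CfsgLib.Perm.Trans.ThreeRes.Socle
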